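import Cfsg.Agent.ODD.FA.Lev
import Cfsg.Agent.ODD.Lev.Main
import Cfsg.Agent.ODD.AH.Main
import Cfsg.Agent.ODD.PS.SL2
import Cfsg.Agent.ODD.Cov.Lin
import Cfsg.Agent.H69.OQ.Map

/-!
# ODD, box FA: the groups `SL_n(q)` (helper35)

* `Gd.le_Rg` : the stabiliser of a good character which is constant on the blocks;
* `ldSL` : the linear datum of `SL_{n+1}(F)`; `qa_sl`; **`boxA_psl : RowA PslO`**.
-/

set_option autoImplicit false
set_option linter.unusedSectionVars false
set_option maxHeartbeats 400000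

open Cfsg

namespace Cfsg.Agent.ODD.FA

open Equiv Finset Matrix CoxeterSystem Cfsg.Agent.ChevalleyStructure.CoxeterGeom Cfsg.Agent.Tits.Roots
  Cfsg.Agent.Tits.Core Cfsg.Agent.Nodes.Reps Cfsg.Agent.Nodes.BNOf Cfsg.Agent.Nodes.Bruhat Cfsg.Agent.Nodes.LeviDec
  Cfsg.Agent.H684.OQ Cfsg.Agent.H381.OQ Cfsg.Agent.ODD.PS

/-- upper unitriangular -/
def Uni {m : ℕ} {F : Type*} [Field F] (A : Matrix (Fin m) (Fin m) F) : Prop :=
  ∀ a b, b ≤ a → A a b = (1 : Matrix (Fin m) (Fin m) F) a b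

theorem Uni.mul {m : ℕ} {F : Type*} [Field F] {A B : Matrix (Fin m) (Fin m) F} (hA : Uni A) (hB : Uni B) :
    Uni (A * B) := fun a b hab => by
  rw [mul_apply, sum_eq_single a (fun c _ hc => ?_) (by simp), hA a a le_rfl, one_apply_eq, one_mul, hB a b hab]
  rcases lt_or_gt_of_ne hc with h | h
  · rw [hA a c h.le, one_apply_ne hc.symm, zero_mul]
  · rw [hB c b (hab.trans h.le), one_apply_ne (hab.trans_lt h).ne', mul_zero]

section gen

variable {I W Y : Type} [Fintype I] [DecidableEq I] [Group W] [Finite W] [Group Y] [Finite Y]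
  {M : CoxeterMatrix I} {cs : CoxeterSystem M W} {A : I → I → ℤ} {h : IsCartan M A} {p : ℕ} {T : Subgroup Y}
  {n : I → Y} {X : (I → ℤ) → Subgroup Y}

theorem uni_of_gen {m : ℕ} {F : Type*} [Field F] {P : Subgroup Y} {ρ : Y → Matrix (Fin m) (Fin m) F} (h1 : ρ 1 = 1)
    (hm : ∀ g ∈ P, ∀ g' ∈ P, ρ (g * g') = ρ g * ρ g')
    (hX : ∀ x, IsRoot cs h x → 0 ≤ x → ∀ u ∈ X x, u ∈ P ∧ Uni (ρ u)) {u : Y} (hu : u ∈ UU cs h X) :
    u ∈ P ∧ Uni (ρ u) := by
  let S : Submonoid Y := ⟨⟨{u | u ∈ P ∧ Uni (ρ u)}, fun ⟨h2, h3⟩ ⟨h4, h5⟩ => ⟨mul_mem h2 h4, hm _ h2 _ h4 ▸ h3.mul h5⟩⟩,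
    one_mem _, h1 ▸ fun _ _ _ => rfl⟩
  exact RGD.Sup_le (K := ⟨S, fun {g} hg => inv_eq_pow g ▸ S.pow_mem hg _⟩)
    (fun x hx => hX x hx.1 hx.2) hu

theorem GG_top (hG : Nodes.RGDLib.G1 cs h X = ⊤) : GG cs h T X = ⊤ := eq_top_iff.2 (hG.ge.trans le_sup_right)

/-- the stabiliser of a good character which is constant on the blocks -/
theorem LD.Gd.le_Rg {R : RGD cs h p T n X} {F : Type} [Field F] [Finite F] {k : ℕ} {L : LD R F k}
    {β : Fin (k + 1) → ℕ} {f : Fin (k + 1) → Fˣ →* ℂˣ} {lam : ↥T →* ℂˣ} (G : L.Gd β f lam) (hf : Bc β f) :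
    Wst R lam ≤ Rg R lam := fun w hw => by
  obtain ⟨κ, -, h1⟩ := G.rep.twist G.ef hw
  exact G.rep.mem_Rg G.ef fun i => MonoidHom.ext fun x => by rw [h1, G.blk.twist hf h1, one_mul]

end gen

section SL

open Cfsg.Agent.Nodes.RGDTypeA Cfsg.Agent.Nodes.RootsA
open Cfsg.Agent.LieRecognition.BNCox (cA cA_apply)

variable (n : ℕ) (F : Type) [Field F] [Finite F] (p : ℕ) [Fact p.Prime] [CharP F p]

theorem finA : Finite (cA n).Group := finite_W (cA n).toCoxeterSystem (isCartan n)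

/-- the root group datum of `SL_{n+1}(F)` -/
theorem rSL : RGD (cA n).toCoxeterSystem (isCartan n) p (T (Fin (n + 1)) F) (ns n F) (X F) := rgd _ _

/-- the permutation of an element of the Weyl group -/
noncomputable def pwA : (cA n).Group →* Perm (Fin (n + 1)) :=
  (cA n).toCoxeterSystem.lift ⟨fun i => swap i.castSucc i.succ, swap_rel (cA n).toCoxeterSystem (isCartan n)⟩

theorem pwA_simple (i : Fin n) : pwA n ((cA n).toCoxeterSystem.simple i) = swap i.castSucc i.succ :=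
  lift_apply_simple _ _ i

include F p in
theorem pwA_inj {w : (cA n).Group} (hw : pwA n w = 1) : w = 1 := by
  have := finA n
  have h1 : ∀ w : (cA n).Group, ∃ g, Rp (cA n).toCoxeterSystem (rSL n F p).nsys w g ∧ Mono (pwA n w) g := by
    intro w
    induction w using (cA n).toCoxeterSystem.simple_induction_left with
    | one => exact ⟨1, rp_one, map_one (pwA n) ▸ mono_one⟩
    | mul_simple_left w i ih =>
      obtain ⟨g, h1, h2⟩ := ih
      exact ⟨_, (rp_simple _ _ i).mul h1, by rw [map_mul, pwA_simple]; exact (mono_ns i).mul h2⟩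
  obtain ⟨g, h2, h3⟩ := h1 w
  exact (rSL n F p).eq_one_of_mem_B h2 (RGD.T_le_B (mem_T.2 (hw ▸ h3)))

theorem typeA_cA : Lev.TypeA (cA n) (Set.range id) := by
  refine ⟨fun i _ j _ => ?_, fun i _ a _ b _ c _ => ?_⟩
  · rw [cA_apply]
    unfold LieRecognition.CoxClass.mA
    split_ifs <;> omega
  · simp only [cA_apply, Fin.ext_iff]
    unfold LieRecognition.CoxClass.mA
    split_ifs <;> omega

theorem uni_tv {a b : Fin (n + 1)} (hab : a < b) (t : F) : Uni (TitsThree.KSideA.tv a b t).1 := fun c d hcd => by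
  rw [tv_val hab.ne, Matrix.add_apply, single_apply_of_ne _ _ _ _ _ fun h => by omega, add_zero]

/-- **the linear datum of `SL_{n+1}(F)`** -/
noncomputable def ldSL : haveI := finA n; LD (rSL n F p) F n :=
  haveI := finA n
  { P := ⊤
    ρ := fun g => g.1
    ι := id
    pw := pwA n
    Δ := ⊥
    B_le := le_top
    n_mem := fun _ => Subgroup.mem_top _
    one := rfl
    mul := fun _ _ _ _ => rfl
    U_tri := fun u hu => (uni_of_gen (P := ⊤) (ρ := fun g : SpecialLinearGroup (Fin (n + 1)) F => g.1) rfl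
      (fun _ _ _ _ => rfl) (fun x hx h0 u hu => ⟨Subgroup.mem_top _, by
        obtain ⟨a, b, hab, rfl⟩ := exists_of_isRoot _ _ hx
        rw [X_rtA hab] at hu
        obtain ⟨t, rfl⟩ := hu
        exact uni_tv n F (lt_of_le_of_ne (rtA_nonneg_iff.1 h0) hab) t⟩) hu).2
    T_diag := fun _ ht => ht
    T_inj := fun _ _ h => Subtype.ext h
    T_det := fun t _ => ⟨1, one_mem _, t.2⟩
    T_two := fun a x ha => ⟨_, diag_mem_T ha x.ne_zero, by
      rw [SpecialLinearGroup.diag2n_coe]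
      congr 1
      ext i
      by_cases h1 : i = a
      · simp [h1, ha]
      · by_cases h2 : i = Fin.last n
        · simp [h2, ha.symm]
        · simp [h1, h2]⟩
    T_last := fun δ hδ => ⟨1, one_mem _, by rw [Subgroup.mem_bot.1 hδ]; simp⟩
    n_mon := fun i => mono_ns i
    n_fix := fun i b h1 h2 => by
      change (nn i.castSucc i.succ (1 : F)).1 b b = 1
      rw [apply_eq_smul, nn_smul i.castSucc_lt_succ.ne one_ne_zero, if_neg h1, if_neg h2, Pi.single_eq_same]
    n_det := fun i => (ns n F i).2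
    X_fix := fun i x hx a b hb => by
      rw [id, X_sr] at hx
      obtain ⟨t, rfl⟩ := hx
      rw [tv_val i.castSucc_lt_succ.ne, Matrix.add_apply, single_apply_of_ne _ _ _ _ _ fun h => hb h.2.symm, add_zero]
    pw_in := pwA_simple n
    pw_out := fun j hj => absurd ⟨j, rfl⟩ hj
    pw_sq := fun w hw => by rw [pwA_inj n F p hw, mul_one]
    pw_inj := fun w _ hw => pwA_inj n F p hw
    ta := typeA_cA n
    znode := fun j hj => absurd ⟨j, rfl⟩ hj
    dich := Or.inr fun mu _ t ht h1 => by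
      have h2 : t.1 = diagonal fun a => t.1 a a := (IsMon.eq (σ := 1) ht).trans (mon_one _)
      have h3 := t.2
      rw [h2, det_diagonal, prod_eq_single (Fin.last n) (fun a _ ha => h1 a ha) (by simp)] at h3
      have h4 : t = 1 := Subtype.ext (h2.trans (by
        rw [show (fun a => t.1 a a) = fun _ => 1 from funext fun a => by
          by_cases ha : a = Fin.last n
          · rw [ha, h3]
          · exact h1 a ha]
        exact diagonal_one))
      subst h4
      exact map_one mu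
    cv := fun u _ h _ _ => Subtype.ext h }

theorem gg_sl : GG (cA n).toCoxeterSystem (isCartan n) (T (Fin (n + 1)) F) (X F) = ⊤ :=
  haveI := finA n
  GG_top (G1_eq_top _ _)

end SL

theorem two_ne_of_odd {F : Type*} [Field F] [Fintype F] (hF : Odd (Fintype.card F)) : ringChar F ≠ 2 := fun h =>
  Nat.not_even_iff_odd.2 hF (Nat.even_iff.2 (FiniteField.even_card_of_char_two h))

/-- **`SL_n(q)`** -/
theorem qa_sl (F : Type) [Field F] [Fintype F] (n : ℕ) (hF : Odd (Fintype.card F)) (hn : 2 ≤ n) :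
    QA (SpecialLinearGroup (Fin n) F) := by
  rcases hn.eq_or_lt with rfl | hn
  · exact OddRat.qa (S2.oddRat_sl2 hF)
  obtain ⟨n, rfl⟩ : ∃ k, n = k + 1 := ⟨n - 1, by omega⟩
  have := finA n
  have : Fact (ringChar F).Prime := ⟨CharP.char_is_prime F _⟩
  have h2 : (2 : F) ≠ 0 := Ring.two_ne_zero (two_ne_of_odd hF)
  exact (ldSL n F (ringChar F)).qa Lev.levq Lev.ratA (AH.main Hk.ho) Fact.out (two_ne_of_odd hF) (gg_sl n F)
    (H69.OQ.nofix_sl _ _ (by omega) h2) h2

/-- **the row of `PSL_n(q)`, `q` odd** -/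
theorem boxA_psl : RowA PslO := Cv.rowA_psl fun F _ _ n hF hn _ => qa_sl F n hF hn

end Cfsg.Agent.ODD.FA
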