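import Cfsg.Agent.ODD.FA.Wt
import Cfsg.Agent.ODD.Exc.U43
import Cfsg.Agent.H61.SUCross
import Cfsg.Agent.H346.Pw.TwoU

/-!
# ODD, box FA: the groups `SU_n(q)` (helper35)

* `uf_even`, `uf_odd` : the unitary Witt frames; `exists_su` : the root group datum with `UF`, `GG = ⊤` and `NoFix`;
* `qa_su`; **`boxA_psu : RowA PsuO`**.
-/

set_option autoImplicit false
set_option linter.unusedSectionVars false
set_option maxHeartbeats 400000

open Cfsg

namespace Cfsg.Agent.ODD.FA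

open Equiv Finset Matrix CoxeterSystem Cfsg.Agent.ChevalleyStructure.CoxeterGeom Cfsg.Agent.Tits.Roots
  Cfsg.Agent.Nodes.Reps Cfsg.Agent.Nodes.BNOf Cfsg.Agent.Nodes.Bruhat Cfsg.Agent.Nodes
open Cfsg.Agent.TitsThree.Siegel Cfsg.Agent.TitsThree.WittFrame Cfsg.Agent.TitsThree.WittWeyl
  Cfsg.Agent.TitsThree.FrameCN Cfsg.Agent.LieClassical.HermBasic Cfsg.Agent.TitsThree.SiegelGen
  Cfsg.Agent.TitsThree.WBridge Cfsg.Agent.TitsThree.KSideU Cfsg.Agent.TitsThree.KSideUDesc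
open Cfsg.Agent.Nodes.WittRoot (Amb Mono)
open Cfsg.Agent.Nodes.WittRGD (eq_or_ng nn)
open Cfsg.Agent.Nodes.WittU (amb_U exists_adm)
open Cfsg.Agent.Nodes.TypeC (ng isCartan)
open Cfsg.Agent.H61.SUCross (modelSU)
open Cfsg.Agent.H69.OQ (NoFix nofix_of nofix_tt exists_two_elt exists_torus)
open Cfsg.Agent.H428.OQ (line_psu)

variable {F : Type} [Field F] [Fintype F] {q N k : ℕ} (hF : Fintype.card F = q ^ 2) (hq : Odd q) (hN : 3 ≤ N)
  (W : WFrame (PU hF N) (k + 1)) {p0 : (toFrame W).Adm} (hp0 : p0.c ≠ 0) (hw0 : p0.w = 0)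

include hq hp0 hw0

theorem uf_odd {d : Fin N → F} (hd : hermForm N F q d d = 1) (hV : W.V0 = Submodule.span F {d}) :
    UF (modelSU hF hN W) (toLin F q N) q ⊤ p0 where
  card := hF
  odd := hq
  amb := amb_U hF W
  inj := toLin_injective
  eq := toLin_ofRange
  mem y := ⟨y, rfl⟩
  σ _ := rfl
  fix _ := H346.PwU.eq_one_odd hF hd hV
  c0 := hp0
  w0 := hw0
  det g hg hm := ⟨Units.mk0 _ ((prod_ne_zero_iff (s := univ)).2 fun b _ => (opp ((amb_U hF W).iso g hg) hm (tor_e hm b)).1),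
    Subgroup.mem_top _, (congrArg det (mx_diag (tor_e hm))).trans det_diagonal⟩
  adm _ _ := (line_psu hF W hd hV).exists_c hF
  alt := Or.inl ⟨rfl, d, line_psu hF W hd hV⟩

theorem uf_even (hk : N = 2 * (k + 1)) (hV : W.V0 = ⊥) :
    UF (modelSU hF hN W) (toLin F q N) q ((powMonoidHom q).eqLocus (MonoidHom.id Fˣ)) p0 where
  card := hF
  odd := hq
  amb := amb_U hF W
  inj := toLin_injective
  eq := toLin_ofRange
  mem y := ⟨y, rfl⟩
  σ _ := rfl
  fix _ _ h := WittRGD.Amb.eq_one_of_fix (amb_U hF W) h fun w (hw : w ∈ W.V0) => by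
    rw [show w = 0 from (Submodule.mem_bot F).1 (hV ▸ hw), map_zero]
  c0 := hp0
  w0 := hw0
  det g hg hm := by
    have hi := (amb_U hF W).iso g hg
    have h0 : ∀ b, mx (toFrame W) g b b ≠ 0 := fun b => (opp hi hm (tor_e hm b)).1
    let B := basisOfLinearIndependentOfCardEqFinrank (K := F) (b := (toFrame W).b) (Fintype.linearIndependent_iff.2 fun c hc x => by
      have h1 := congrArg (fun v => (HU hF N).h v ((toFrame W).b (ng x))) hc
      simp only [HU_h, herm_sum_left, herm_smul_left, herm_zero_left] at h1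
      exact (mul_eq_zero.1 ((sum_eq_single x (fun y _ hy => mul_eq_zero_of_right _ ((toFrame W).hb_ne fun h =>
        hy ((TypeC.ng_ng y).symm.trans ((congrArg ng h).symm.trans (TypeC.ng_ng x))))) (by simp)).symm.trans
        h1)).resolve_right (((toFrame W).hb_self_neg x).trans_ne ((toFrame W).η_ne _)))
      (by simp [hk, mul_comm])
    have h1 := B.det_comp (g : (Fin N → F) →ₗ[F] (Fin N → F)) B
    have h2 : (g : (Fin N → F) →ₗ[F] (Fin N → F)) ∘ B = fun x => (if x.2 then mx (toFrame W) g x.1 x.1 else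
        (mx (toFrame W) g x.1 x.1 ^ q)⁻¹) • B x := funext fun ⟨b, s⟩ => by
      simp only [B, coe_basisOfLinearIndependentOfCardEqFinrank]
      cases s
      · exact (opp hi hm (tor_e hm b)).2
      · exact tor_e hm b
    obtain ⟨A, rfl⟩ := hg
    rw [h2, AlternatingMap.map_smul_univ, B.det_self, show (toLin F q N A : (Fin N → F) →ₗ[F] (Fin N → F)) =
      Matrix.toLin' A.1.1 from LinearMap.ext fun v => by rw [Matrix.toLin'_apply]; rfl,
      LinearMap.det_toLin', A.1.2, Fintype.prod_prod_type_right,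
      Fintype.prod_bool] at h1
    simp only [if_true, Bool.false_eq_true, if_false, prod_inv_distrib, prod_pow, smul_eq_mul, mul_one] at h1
    refine ⟨Units.mk0 _ ((prod_ne_zero_iff (s := univ)).2 fun b _ => h0 b), Units.ext ?_,
       (congrArg det (mx_diag (tor_e hm))).trans det_diagonal⟩
    exact ((mul_inv_eq_one₀ (pow_ne_zero _ (prod_ne_zero_iff.2 fun b _ => h0 b))).1 h1).symm
  adm δ hδ := ⟨⟨0, δ * p0.c, zero_mem _, by
    have h1 := p0.ok.2
    rw [ok_iff, hw0] at h1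
    rw [ok_iff, mul_pow, show (δ : F) ^ q = δ from congrArg Units.val hδ, ← mul_add, h1, herm_zero_left, neg_zero,
      mul_zero]⟩, rfl⟩
  alt := Or.inr ⟨by omega, fun _ hδ => congrArg Units.val hδ⟩

omit hp0 hw0

theorem nofix_su3 (W : WFrame (PU hF N) 1) {d : Fin N → F} (hd : hermForm N F q d d = 1)
    (hV : W.V0 = Submodule.span F {d}) {G : Type} [Group G] (cs : CoxeterSystem (CoxeterMatrix.B 1) G) :
    NoFix cs (isCartan 1) (WittModel.T (modelSU hF hN W)) (WittModel.X (modelSU hF hN W)) := by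
  have hA := amb_U hF W
  refine nofix_of _ cs hA (fun a b hab => absurd (Subsingleton.elim _ _) hab) fun a p hp => ?_
  obtain ⟨t, j, ht, h0⟩ : ∃ (t : F) (j : ℕ), t ^ 2 ^ j = 1 ∧
      ¬ (t ^ q • (t ^ q / t) • p.w = p.w ∧ t ^ q * (t ^ q) ^ q * p.c = p.c) := by
    by_cases hw : p.w = 0
    · obtain ⟨t, j, ht, h⟩ := exists_two_elt hF hq
      refine ⟨t, j, ht, fun h1 => hp (Frame.Adm.ext hw (by_contra fun h2 => h ?_))⟩
      rw [mul_comm, ← mul_right_cancel₀ h2 (h1.2.trans (one_mul _).symm), pow_q_pow_q hF]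
    · refine ⟨-1, 1, by norm_num, fun h1 => hw ?_⟩
      have h2 : (2 : F) • p.w = 0 := by
        simpa [hq.neg_one_pow, neg_eq_iff_add_eq_zero, two_smul] using h1.1
      exact (smul_eq_zero.1 h2).resolve_left (Ring.two_ne_zero (two_ne_of_odd (hF ▸ hq.pow)))
  have ht0 : t ≠ 0 := by
    rintro rfl
    simp at ht
  obtain ⟨g, hg, h1, h2, -, h4⟩ := exists_torus hF W hd hV a ht0
  have hm : Mono (toFrame W) g id := fun z => by
    rcases eq_or_ng (Subsingleton.elim z.1 a.1) with rfl | rfl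
    · exact ⟨t, ht0, h1⟩
    · exact ⟨_, inv_ne_zero (pow_ne_zero _ ht0), h2⟩
  have key : ∀ (v : Fin N → F) (l : F), l ^ 2 ^ j = 1 → g v = l • v → (g ^ 2 ^ j) v = v := fun v l hl e => by
    have h5 : ∀ i : ℕ, (g ^ i) v = l ^ i • v := fun i => by
      induction i with
      | zero => simp
      | succ i ih => rw [pow_succ, LinearEquiv.mul_apply, e, map_smul, ih, smul_smul, pow_succ']
    rw [h5, hl, one_smul]
  have h5 : (t ^ q) ^ 2 ^ j = 1 := by rw [← pow_mul, mul_comm, pow_mul, ht, one_pow]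
  obtain ⟨r, hr, hr'⟩ := hA.exists_adm hg hm (ρ := id) (fun _ => rfl) p
  refine ⟨g, t, r, hg, hm, ⟨j, WittRGD.Amb.eq_one_of_fix hA (fun z => ?_) fun w hw =>
    key _ _ (by rw [div_pow, h5, ht, div_one]) (h4 w hw)⟩, h1, hr, hr', fun h => h0 ⟨?_, ?_⟩⟩
  · rcases eq_or_ng (Subsingleton.elim z.1 a.1) with rfl | rfl
    · exact key _ _ ht h1
    · exact key _ _ (by rw [inv_pow, h5, inv_one]) h2
  · rw [← h4 _ p.ok.1, hr]
    exact congrArg Frame.Adm.w h
  · exact (congrArg _ hr').trans (congrArg Frame.Adm.c h)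

include hN in
/-- **the root group datum of `SU_N(q)`** -/
theorem exists_su : ∃ (k : ℕ) (W : WFrame (PU hF N) (k + 1)) (p0 : (toFrame W).Adm) (Δ : Subgroup Fˣ),
    UF (modelSU hF hN W) (toLin F q N) q Δ p0 ∧ NoFix (CoxeterMatrix.B (k + 1)).toCoxeterSystem (isCartan (k + 1))
      (WittModel.T (modelSU hF hN W)) (WittModel.X (modelSU hF hN W)) := by
  obtain ⟨t, j, ht, h⟩ := exists_two_elt hF hq
  obtain ⟨k, hk⟩ : ∃ k, N = 2 * (k + 1) ∨ N = 2 * (k + 1) + 1 := ⟨N / 2 - 1, by omega⟩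
  rcases hk with hk | hk
  · obtain ⟨W, hV⟩ := exists_wframe_even hF hk
    obtain ⟨p0, hp0, hw0⟩ := exists_adm hF W
    exact ⟨k, W, p0, _, uf_even hF hq hN W hp0 hw0 hk hV, nofix_tt _ _ (amb_U hF W) (by omega) ht h⟩
  · obtain ⟨W, d, hd, hV⟩ := exists_wframe_odd hF hk
    obtain ⟨p0, hp0, hw0⟩ := exists_adm hF W
    refine ⟨k, W, p0, _, uf_odd hF hq hN W hp0 hw0 hd hV, ?_⟩
    rcases k with _ | k
    · exact nofix_su3 hF hq hN W hd hV _
    · exact nofix_tt _ _ (amb_U hF W) (by omega) ht h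

include hF hN in
/-- **`SU_N(q)`** -/
theorem qa_su : QA (SU N F q) := by
  obtain ⟨k, W, p0, Δ, D, hnf⟩ := exists_su hF hq hN
  have := TypeC.finite_W (CoxeterMatrix.B (k + 1)).toCoxeterSystem
  have : Fact (ringChar F).Prime := ⟨CharP.char_is_prime F _⟩
  have h2 := two_ne_of_odd (hF ▸ hq.pow)
  exact (D.ld (fun _ => D.eq _) (WittAll.rgdC_model _ (WittAll.AmbT.of_amb D.amb (ringChar F)) D.c0 _)).qa Lev.levq
    Lev.ratA (AH.main Hk.ho) Fact.out h2 (GG_top (WittModel.G1_eq_top _ k.succ_pos _)) hnf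
    (Ring.two_ne_zero h2)

omit hq in
theorem rowO_u43 : RowO Cv.U43 := Alt.rowO_of_allR fun _ _ _ ⟨_, _, _, hF, ⟨e⟩⟩ => (Exc.allR_u43 hF).congr e

omit hq in
/-- **the row of `PSU_n(q)`, `q` odd** -/
theorem boxA_psu : RowA PsuO := Cv.rowA_psu rowO_u43 fun _ _ _ _ _ hq hF hn => qa_su hF hq hn

end Cfsg.Agent.ODD.FA
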