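import Mathlib

/-!
# ODD, box FA: the binary blocks (helper35)

* `Blk β` : `β` is monotone and the fibre through `i` has `2 ^ β i` elements; `exists_blk`;
* `Blk.eq_of_comp` : a function which is constant on the blocks is the only such function in its orbit;
* `mem_closure_adj`, `mem_closure_swap` : generation by transpositions;
* `exists_sort` : sorting inside the blocks;
* `Blk.exists_ea` : an elementary abelian `2`-group which is transitive on every block.
-/

set_option autoImplicit false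

namespace Cfsg.Agent.ODD.FA

open Equiv Finset

variable {m : ℕ}

/-- the binary blocks -/
structure Blk (β : Fin m → ℕ) : Prop where
  mono : Monotone β
  card : ∀ i, (univ.filter fun j => β j = β i).card = 2 ^ β i

theorem exists_blk (m : ℕ) : ∃ β : Fin m → ℕ, Blk β := by
  have hex : ∀ i : Fin m, ∃ b, (i : ℕ) < m % 2 ^ (b + 1) := fun i =>
    ⟨m, by rw [Nat.mod_eq_of_lt (Nat.lt_two_pow_self.trans (Nat.pow_lt_pow_right (by norm_num) (Nat.lt_succ_self m)))]
           exact i.2⟩
  have hmono : Monotone fun b => m % 2 ^ b := monotone_nat_of_le_succ fun b => by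
    simp only [Nat.mod_pow_succ]
    exact Nat.le_add_right _ _
  have hiff : ∀ (j : Fin m) (b : ℕ), Nat.find (hex j) = b ↔ m % 2 ^ b ≤ j ∧ (j : ℕ) < m % 2 ^ (b + 1) := by
    intro j b
    rw [Nat.find_eq_iff]
    constructor
    · rintro ⟨h1, h2⟩
      refine ⟨?_, h1⟩
      rcases b with _ | b
      · rw [pow_zero, Nat.mod_one]
        exact Nat.zero_le _
      · exact not_lt.1 (h2 b (Nat.lt_succ_self b))
    · rintro ⟨h1, h2⟩
      exact ⟨h2, fun c hc => not_lt.2 ((hmono (show c + 1 ≤ b from hc)).trans h1)⟩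
  refine ⟨fun i => Nat.find (hex i), fun i j hij =>
    Nat.find_min' (hex i) (lt_of_le_of_lt (show (i : ℕ) ≤ j from hij) (Nat.find_spec (hex j))), fun i => ?_⟩
  obtain ⟨h1, h2⟩ := (hiff i _).1 rfl
  generalize Nat.find (hex i) = b at h1 h2 ⊢
  have h3 : m % 2 ^ (b + 1) = m % 2 ^ b + 2 ^ b := by
    rw [Nat.mod_pow_succ] at h2 ⊢
    rcases Nat.mod_two_eq_zero_or_one (m / 2 ^ b) with h | h
    · rw [h] at h2
      omega
    · rw [h, mul_one]
  have h4 : m % 2 ^ (b + 1) ≤ m := Nat.mod_le _ _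
  have h5 : (univ.filter fun j : Fin m => Nat.find (hex j) = b).map Fin.valEmbedding =
      Finset.Ico (m % 2 ^ b) (m % 2 ^ (b + 1)) := by
    ext x
    simp only [mem_map, mem_filter, mem_univ, true_and, hiff, Fin.valEmbedding_apply, Finset.mem_Ico]
    constructor
    · rintro ⟨j, hj, rfl⟩
      exact hj
    · intro hx
      exact ⟨⟨x, by omega⟩, hx, rfl⟩
  have h6 := congrArg Finset.card h5
  rw [card_map, Nat.card_Ico, h3, Nat.add_sub_cancel_left] at h6
  exact h6

/-- constant on the blocks -/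
def Bc {A : Type*} (β : Fin m → ℕ) (f : Fin m → A) : Prop := ∀ i j, β i = β j → f i = f j

namespace Blk

variable {β : Fin m → ℕ} (hβ : Blk β)
include hβ

theorem card_level {A : Type*} [DecidableEq A] {f : Fin m → A} (hf : Bc β f) (a : A) :
    (univ.filter fun i => f i = a).card = ∑ b ∈ (univ.filter fun i => f i = a).image β, 2 ^ b := by
  rw [card_eq_sum_card_image β]
  refine sum_congr rfl fun b hb => ?_
  obtain ⟨i, hi, rfl⟩ := mem_image.1 hb
  rw [← hβ.card i]
  congr 1
  ext j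
  simp only [mem_filter, mem_univ, true_and] at hi ⊢
  exact ⟨fun h => h.2, fun h => ⟨(hf j i h).trans hi, h⟩⟩

theorem eq_of_comp {A : Type*} {f : Fin m → A} (hf : Bc β f) (σ : Perm (Fin m)) (hf' : Bc β fun i => f (σ i))
    (i : Fin m) : f (σ i) = f i := by
  classical
  have h1 : (univ.filter fun j => f (σ j) = f i).card = (univ.filter fun j => f j = f i).card :=
    card_bij (fun j _ => σ j) (fun j hj => by simpa using hj) (fun _ _ _ _ h => σ.injective h)
      fun j hj => ⟨σ⁻¹ j, by simpa using hj, by simp⟩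
  rw [hβ.card_level hf' (f i), hβ.card_level hf (f i)] at h1
  have h2 := geomSum_injective (n := 2) le_rfl h1
  have h3 : β i ∈ (univ.filter fun j => f (σ j) = f i).image β := by
    rw [h2]
    exact mem_image_of_mem β (by simp)
  obtain ⟨j, hj, hj'⟩ := mem_image.1 h3
  exact (hf' i j hj'.symm).trans (mem_filter.1 hj).2

theorem exists_lab : ∃ L : Fin m → ℕ, (∀ i, L i < 2 ^ β i) ∧ (∀ i j, β i = β j → L i = L j → i = j) ∧
    ∀ i c, c < 2 ^ β i → ∃ j, β j = β i ∧ L j = c := by
  have h : ∀ b : ℕ, ∃ L : Fin m → ℕ, (∀ i, β i = b → L i < (univ.filter fun j => β j = b).card) ∧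
      (∀ i j, β i = b → β j = b → L i = L j → i = j) ∧
      ∀ c, c < (univ.filter fun j => β j = b).card → ∃ j, β j = b ∧ L j = c := by
    intro b
    let e := (univ.filter fun j => β j = b).equivFin
    refine ⟨fun i => if h : β i = b then (e ⟨i, by simpa using h⟩ : ℕ) else 0, fun i hi => ?_, fun i j hi hj hij => ?_,
      fun c hc => ?_⟩
    · simp only [dif_pos hi]
      exact Fin.is_lt _
    · simp only [dif_pos hi, dif_pos hj] at hij
      exact congrArg Subtype.val (e.injective (Fin.ext hij))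
    · have h1 : β (e.symm ⟨c, hc⟩).1 = b := (mem_filter.1 (e.symm ⟨c, hc⟩).2).2
      refine ⟨(e.symm ⟨c, hc⟩).1, h1, ?_⟩
      simp only [dif_pos h1, Subtype.coe_eta, apply_symm_apply]
  choose L h1 h2 h3 using h
  refine ⟨fun i => L (β i) i, fun i => ?_, fun i j hij h => ?_, fun i c hc => ?_⟩
  · rw [← hβ.card i]
    exact h1 _ i rfl
  · exact h2 (β j) i j hij rfl ((congrArg (L · i) hij).symm.trans h)
  · obtain ⟨j, hj, hc'⟩ := h3 (β i) c (by rw [hβ.card]; exact hc)
    exact ⟨j, hj, by simp only [hj, hc']⟩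

/-- an elementary abelian `2`-group which is transitive on every block -/
theorem exists_ea : ∃ C : Subgroup (Perm (Fin m)), (∀ x ∈ C, x * x = 1) ∧
    ∀ i j, β i = β j → ∃ x ∈ C, x i = j ∧ ∀ l, β l ≠ β i → x l = l := by
  obtain ⟨L, h1, h2, h3⟩ := hβ.exists_lab
  have hsq : ∀ x : Perm (Fin m), (∀ i, β (x i) = β i ∧ ∀ j, β j = β i → L (x i) ^^^ L i = L (x j) ^^^ L j) →
      x * x = 1 := by
    intro x hx
    ext i
    have h4 := (hx i).2 (x i) (hx i).1
    have h5 : L (x (x i)) = L i := by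
      rw [← Nat.xor_xor_cancel_right (L (x (x i))) (L (x i)), ← h4, Nat.xor_comm (L (x i)), Nat.xor_xor_cancel_right]
    rw [Perm.mul_apply, h2 (x (x i)) i ((hx _).1.trans (hx i).1) h5]
    rfl
  refine ⟨⟨⟨⟨{x | ∀ i, β (x i) = β i ∧ ∀ j, β j = β i → L (x i) ^^^ L i = L (x j) ^^^ L j}, ?_⟩, ?_⟩, ?_⟩, hsq,
    fun i j hij => ?_⟩
  · intro x y hx hy i
    refine ⟨(hx _).1.trans (hy i).1, fun j hj => ?_⟩
    have e : ∀ l, L ((x * y) l) ^^^ L l = (L (x (y l)) ^^^ L (y l)) ^^^ (L (y l) ^^^ L l) := fun l => by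
      rw [Nat.xor_assoc, Nat.xor_xor_cancel_left, Perm.mul_apply]
    rw [e, e, (hy i).2 j hj, (hx (y i)).2 (y j) ((hy j).1.trans (hj.trans (hy i).1.symm))]
  · intro i
    exact ⟨rfl, fun j _ => by simp⟩
  · intro x hx
    rw [inv_eq_of_mul_eq_one_right (hsq x hx)]
    exact hx
  · have h4 : ∀ l, ∃ l', β l' = β l ∧ (β l = β i → L l' = L l ^^^ (L i ^^^ L j)) ∧ (β l ≠ β i → l' = l) := by
      intro l
      by_cases hl : β l = β i
      · obtain ⟨l', h5, h6⟩ := h3 l (L l ^^^ (L i ^^^ L j))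
          (Nat.xor_lt_two_pow (h1 l) (Nat.xor_lt_two_pow (hl ▸ h1 i) ((hl.trans hij) ▸ h1 j)))
        exact ⟨l', h5, fun _ => h6, fun h => absurd hl h⟩
      · exact ⟨l, rfl, fun h => absurd h hl, fun _ => rfl⟩
    choose x h5 h6 h7 using h4
    have hinv : Function.Involutive x := by
      intro l
      by_cases hl : β l = β i
      · refine h2 _ _ ((h5 _).trans (h5 l)) ?_
        rw [h6 _ ((h5 l).trans hl), h6 l hl, Nat.xor_xor_cancel_right]
      · rw [h7 l hl, h7 l hl]
    refine ⟨hinv.toPerm x, fun l => ⟨h5 l, fun l' hl' => ?_⟩, ?_, h7⟩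
    · change L (x l) ^^^ L l = L (x l') ^^^ L l'
      by_cases hl : β l = β i
      · rw [h6 l hl, h6 l' (hl'.trans hl), Nat.xor_comm (L l), Nat.xor_comm (L l'), Nat.xor_xor_cancel_right,
          Nat.xor_xor_cancel_right]
      · rw [h7 l hl, h7 l' (hl' ▸ hl), Nat.xor_self, Nat.xor_self]
    · refine h2 _ _ ((h5 i).trans hij) ?_
      change L (x i) = L j
      rw [h6 i rfl, Nat.xor_xor_cancel_left]

end Blk

/-- the stabiliser of a function is generated by transpositions -/
theorem mem_closure_swap {A : Type*} {f : Fin m → A} {σ : Perm (Fin m)} (hσ : ∀ i, f (σ i) = f i) :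
    σ ∈ Subgroup.closure {x : Perm (Fin m) | ∃ i j, i ≠ j ∧ f i = f j ∧ x = swap i j} := by
  refine (mem_closure_isSwap (by rintro x ⟨i, j, hij, _, h⟩; exact ⟨i, j, hij, h⟩)).2 ⟨Set.toFinite _, fun i => ?_⟩
  by_cases h : i = σ i
  · rw [← h]
    exact MulAction.mem_orbit_self i
  · exact ⟨⟨swap i (σ i), Subgroup.subset_closure ⟨i, σ i, h, (hσ i).symm, rfl⟩⟩, swap_apply_left _ _⟩

/-- the stabiliser of a monotone function is generated by adjacent transpositions -/
theorem mem_closure_adj {k : ℕ} {β : Fin (k + 1) → ℕ} (hβ : Monotone β) {σ : Perm (Fin (k + 1))}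
    (hσ : ∀ i, β (σ i) = β i) :
    σ ∈ Subgroup.closure {x : Perm (Fin (k + 1)) | ∃ i : Fin k, β i.castSucc = β i.succ ∧ x = swap i.castSucc i.succ} := by
  refine (mem_closure_isSwap (by rintro x ⟨i, _, h⟩; exact ⟨_, _, i.castSucc_lt_succ.ne, h⟩)).2
    ⟨Set.toFinite _, fun i => ?_⟩
  have key : ∀ j i : Fin (k + 1), i ≤ j → β i = β j → j ∈ MulAction.orbit (Subgroup.closure
      {x : Perm (Fin (k + 1)) | ∃ i : Fin k, β i.castSucc = β i.succ ∧ x = swap i.castSucc i.succ}) i := by
    intro j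
    induction j using Fin.induction with
    | zero =>
      intro i hi _
      rw [Fin.le_zero_iff.1 hi]
      exact MulAction.mem_orbit_self _
    | succ j ih =>
      intro i hi h
      rcases hi.eq_or_lt with rfl | hi
      · exact MulAction.mem_orbit_self _
      · have h1 : i ≤ j.castSucc := Fin.le_castSucc_iff.2 hi
        have h2 : β j.castSucc = β j.succ := le_antisymm (hβ j.castSucc_lt_succ.le) (h ▸ hβ h1)
        obtain ⟨g, hg⟩ := ih i h1 (h.trans h2.symm)
        refine ⟨⟨swap j.castSucc j.succ, Subgroup.subset_closure ⟨j, h2, rfl⟩⟩ * g, ?_⟩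
        change swap j.castSucc j.succ (g • i) = j.succ
        rw [show g • i = j.castSucc from hg, swap_apply_left]
  rcases le_total i (σ i) with h | h
  · exact key _ _ h (hσ i).symm
  · exact MulAction.mem_orbit_symm.1 (key _ _ h (hσ i))

/-- sorting inside the blocks -/
theorem exists_sort {A : Type*} {β : Fin m → ℕ} (hβ : Monotone β) {f : Fin m → A} (hf : ¬ Bc β f) :
    ∃ (π : Perm (Fin m)) (γ : Fin m → ℕ), (∀ l, β (π l) = β l) ∧ Monotone γ ∧ (∃ i j, β i = β j ∧ γ i < γ j) ∧
      ∀ σ : Perm (Fin m), (∀ l, β (σ l) = β l) → (∀ l, f (π (σ l)) = f (π l)) → ∀ l, γ (σ l) = γ l := by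
  classical
  simp only [Bc, not_forall] at hf
  obtain ⟨i, j, hij, hne⟩ := hf
  let g : Fin m → ℕ := fun l => 2 * β l + if f l = f i then 0 else 1
  have hg : ∀ l, g l / 2 = β l := fun l => by
    simp only [g]
    split_ifs <;> omega
  have h1 := Tuple.monotone_sort g
  have h2 : Monotone (β ∘ Tuple.sort g) := fun a b hab => by
    simp only [Function.comp_apply, ← hg]
    exact Nat.div_le_div_right (h1 hab)
  have h3 : ∀ l, β (Tuple.sort g l) = β l := fun l =>
    congrFun (Tuple.unique_monotone (τ := 1) h2 hβ) l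
  refine ⟨Tuple.sort g, g ∘ Tuple.sort g, h3, h1, ⟨(Tuple.sort g).symm i, (Tuple.sort g).symm j, ?_, ?_⟩,
    fun σ h4 h5 l => ?_⟩
  · rw [← h3, ← h3 ((Tuple.sort g).symm j), apply_symm_apply, apply_symm_apply, hij]
  · simp only [Function.comp_apply, apply_symm_apply]
    simp only [g, if_true, if_neg (Ne.symm hne), hij]
    omega
  · change 2 * β _ + _ = 2 * β _ + _
    rw [h3, h3, h4, h5]

end Cfsg.Agent.ODD.FA
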