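import Cfsg.Agent.ODD.FA.Mon
import Cfsg.Agent.ODD.PS.Cor
import Cfsg.Agent.ODD.Lev.Defs

/-!
# ODD, box FA: linear data and the characters of the torus (helper35)

* `LD R F k` : a parabolic subgroup `P` with a representation `ρ` of degree `k + 1`, the nodes `ι i` of type `A_k`,
  `pw : W → Sym (k + 1)`, the torus is the group of the diagonal matrices with determinant in `Δ`;
* `L.Rep f lam` : `lam t = ∏ f i (t i)`; `exists_rep`, `Rep.uniq`, `Rep.conj`;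
* `exists_gd` : a conjugate of a character with a stabiliser of odd index is good; `Gd.dich` the dichotomy;
* `Gd.sq` : the squares of the elements of the stabiliser are in `Rg`.
-/

set_option autoImplicit false
set_option linter.unusedSectionVars false
set_option maxHeartbeats 400000

open Cfsg

namespace Cfsg.Agent.ODD.FA

open Equiv Finset Matrix CoxeterSystem Cfsg.Agent.ChevalleyStructure.CoxeterGeom Cfsg.Agent.Tits.Roots
  Cfsg.Agent.Tits.Core Cfsg.Agent.Nodes.Reps Cfsg.Agent.Nodes.BNOf Cfsg.Agent.Nodes.Bruhat Cfsg.Agent.Nodes.LeviDec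
  Cfsg.Agent.H684.OQ Cfsg.Agent.H381.OQ Cfsg.Agent.ODD.PS

/-- a `2`-subgroup is conjugate into every subgroup of odd index -/
theorem exists_conj_le {G : Type*} [Group G] {H Q : Subgroup G} (hH : Odd H.index) (hQ : IsPGroup 2 Q) :
    ∃ x : G, ∀ w ∈ Q, x⁻¹ * w * x ∈ H := by
  have : Fact (Nat.Prime 2) := ⟨Nat.prime_two⟩
  obtain ⟨a, ha⟩ := hQ.nonempty_fixed_point_of_prime_not_dvd_card (G ⧸ H) hH.not_two_dvd_nat
  induction a using QuotientGroup.induction_on with | H x => ?_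
  refine ⟨x, fun w hw => ?_⟩
  have h1 : ((w * x : G) : G ⧸ H) = x := ha ⟨w, hw⟩
  rw [mul_assoc]
  exact QuotientGroup.eq.1 h1.symm

theorem inv_eq_pow {G : Type*} [Group G] [Finite G] (g : G) : g⁻¹ = g ^ (orderOf g - 1) := by
  rw [inv_eq_iff_mul_eq_one, ← pow_succ', Nat.sub_add_cancel (orderOf_pos g), pow_orderOf_eq_one]

/-- the character of the diagonal group -/
def ev {m : ℕ} {K : Type*} [CommGroup K] (f : Fin m → K →* ℂˣ) : (Fin m → K) →* ℂˣ :=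
  MonoidHom.mk' (fun d => ∏ i, f i (d i)) fun a b => by simp only [Pi.mul_apply, map_mul, prod_mul_distrib]

theorem ev_apply {m : ℕ} {K : Type*} [CommGroup K] (f : Fin m → K →* ℂˣ) (d : Fin m → K) :
    ev f d = ∏ i, f i (d i) := rfl

theorem ev_single {m : ℕ} {K : Type*} [CommGroup K] (f : Fin m → K →* ℂˣ) (i : Fin m) (x : K) :
    ev f (Pi.mulSingle i x) = f i x := by
  rw [ev_apply, prod_eq_single i (fun j _ hj => by rw [Pi.mulSingle_eq_of_ne hj, map_one]) (by simp),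
    Pi.mulSingle_eq_same]

variable {I W Y : Type} [Fintype I] [DecidableEq I] [Group W] [Finite W] [Group Y] [Finite Y]
  {M : CoxeterMatrix I} {cs : CoxeterSystem M W} {A : I → I → ℤ} {h : IsCartan M A} {p : ℕ} {T : Subgroup Y}
  {n : I → Y} {X : (I → ℤ) → Subgroup Y}

/-- **linear data** -/
structure LD (R : RGD cs h p T n X) (F : Type) [Field F] (k : ℕ) where
  P : Subgroup Y
  ρ : Y → Matrix (Fin (k + 1)) (Fin (k + 1)) F
  ι : Fin k → I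
  pw : W →* Perm (Fin (k + 1))
  Δ : Subgroup Fˣ
  B_le : RGD.B cs h T X ≤ P
  n_mem : ∀ i, n (ι i) ∈ P
  one : ρ 1 = 1
  mul : ∀ g ∈ P, ∀ g' ∈ P, ρ (g * g') = ρ g * ρ g'
  U_tri : ∀ u ∈ UU cs h X, ∀ a b, b ≤ a → ρ u a b = (1 : Matrix (Fin (k + 1)) (Fin (k + 1)) F) a b
  T_diag : ∀ t ∈ T, IsMon 1 (ρ t)
  T_inj : ∀ t ∈ T, ρ t = 1 → t = 1
  T_det : ∀ t ∈ T, ∃ δ ∈ Δ, (ρ t).det = δ
  T_two : ∀ (a : Fin (k + 1)) (x : Fˣ), a ≠ Fin.last k → ∃ t ∈ T,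
    ρ t = diagonal fun i => ((Pi.mulSingle a x * Pi.mulSingle (Fin.last k) x⁻¹ : Fin (k + 1) → Fˣ) i : F)
  T_last : ∀ δ ∈ Δ, ∃ t ∈ T, ρ t = diagonal fun i => ((Pi.mulSingle (Fin.last k) δ : Fin (k + 1) → Fˣ) i : F)
  n_mon : ∀ i, IsMon (swap i.castSucc i.succ) (ρ (n (ι i)))
  n_fix : ∀ i b, b ≠ i.castSucc → b ≠ i.succ → ρ (n (ι i)) b b = 1
  n_det : ∀ i, (ρ (n (ι i))).det = 1
  X_fix : ∀ i, ∀ x ∈ X (sr (ι i)), ∀ a b, b ≠ i.succ → ρ x a b = (1 : Matrix (Fin (k + 1)) (Fin (k + 1)) F) a b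
  pw_in : ∀ i, pw (cs.simple (ι i)) = swap i.castSucc i.succ
  pw_out : ∀ j, j ∉ Set.range ι → pw (cs.simple j) = 1
  pw_sq : ∀ w, pw w = 1 → w * w = 1
  pw_inj : ∀ w ∈ WJ cs (Set.range ι), pw w = 1 → w = 1
  ta : Lev.TypeA M (Set.range ι)
  znode : ∀ j, j ∉ Set.range ι → ∀ mu : ↥T →* ℂˣ, Cj T mu mu (n j) → zet R j mu ≠ 0
  dich : Δ = ⊤ ∨ ∀ mu : ↥T →* ℂˣ, (∀ j, j ∉ Set.range ι → Cj T mu mu (n j)) →
    ∀ t (ht : t ∈ T), (∀ a, a ≠ Fin.last k → ρ t a a = 1) → mu ⟨t, ht⟩ = 1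
  cv : ∀ u ∈ UU cs h X, ρ u = 1 → ∀ e : ℕ, (∀ j, ∃ w ∈ WJ cs (Set.range ι), ∃ d, Rp cs R.nsys w d ∧ d * u = u * d ∧
    ∃ x : F, Gn e x ∧ ρ d *ᵥ Pi.single j 1 = x • (Pi.single j 1 : Fin (k + 1) → F) ∧
      ∀ (y : F) v, Gn e y → y ≠ x → ρ d *ᵥ v = y • v → v = 0) → u = 1

namespace LD

variable {R : RGD cs h p T n X} {F : Type} [Field F] [Finite F] {k : ℕ} (L : LD R F k)

theorem T_le {t : Y} (ht : t ∈ T) : t ∈ L.P := L.B_le (RGD.T_le_B ht)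

theorem U_le {u : Y} (hu : u ∈ UU cs h X) : u ∈ L.P := L.B_le (RGD.U_le_B hu)

theorem mul_inv {g : Y} (hg : g ∈ L.P) : L.ρ g * L.ρ g⁻¹ = 1 := by
  rw [← L.mul g hg _ (inv_mem hg), mul_inv_cancel, L.one]

theorem inv_mul {g : Y} (hg : g ∈ L.P) : L.ρ g⁻¹ * L.ρ g = 1 := by
  rw [← L.mul _ (inv_mem hg) g hg, inv_mul_cancel, L.one]

theorem det_ne {g : Y} (hg : g ∈ L.P) : (L.ρ g).det ≠ 0 :=
  left_ne_zero_of_mul_eq_one (by rw [← det_mul, L.mul_inv hg, det_one])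

theorem pow {g : Y} (hg : g ∈ L.P) (j : ℕ) : L.ρ (g ^ j) = L.ρ g ^ j := by
  induction j with
  | zero => rw [pow_zero, pow_zero, L.one]
  | succ j ih => rw [pow_succ, pow_succ, L.mul _ (pow_mem hg j) g hg, ih]

theorem eq_of_T {s t : Y} (hs : s ∈ T) (ht : t ∈ T) (e : L.ρ s = L.ρ t) : s = t := by
  refine mul_inv_eq_one.1 (L.T_inj _ (mul_mem hs (inv_mem ht)) ?_)
  rw [L.mul s (L.T_le hs) _ (L.T_le (inv_mem ht)), e, L.mul_inv (L.T_le ht)]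

/-- the diagonal entries -/
def τ : ↥T →* (Fin (k + 1) → Fˣ) :=
  MonoidHom.mk' (fun t i => Units.mk0 (L.ρ t i i) ((L.T_diag t t.2).ne_zero (L.det_ne (L.T_le t.2)) i)) fun a b => by
    ext i
    change L.ρ (a * b) i i = L.ρ a i i * L.ρ b i i
    rw [L.mul _ (L.T_le a.2) _ (L.T_le b.2), (L.T_diag a a.2).eq, (L.T_diag b b.2).eq, mon_one, mon_one,
      diagonal_mul_diagonal]
    simp

theorem τ_val (t : ↥T) (i : Fin (k + 1)) : (L.τ t i : F) = L.ρ t i i := rfl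

theorem ρ_T (t : ↥T) : L.ρ t = diagonal fun i => (L.τ t i : F) := by
  rw [← mon_one]
  exact (L.T_diag t t.2).eq

theorem τ_eq {t : ↥T} {d : Fin (k + 1) → Fˣ} (e : L.ρ t = diagonal fun i => (d i : F)) : L.τ t = d := by
  ext i
  rw [τ_val, e, diagonal_apply_eq]

theorem τ_inj : Function.Injective L.τ := fun s t e => Subtype.ext (L.eq_of_T s.2 t.2 (by rw [ρ_T, ρ_T, e]))

include L in
theorem T_comm : ∀ a ∈ T, ∀ b ∈ T, a * b = b * a := fun a ha b hb =>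
  congrArg Subtype.val (L.τ_inj (a₁ := ⟨a, ha⟩ * ⟨b, hb⟩) (a₂ := ⟨b, hb⟩ * ⟨a, ha⟩)
    (by rw [map_mul, map_mul, mul_comm]))

theorem det_T (t : ↥T) : (L.ρ t).det = (∏ i, L.τ t i : Fˣ) := by rw [ρ_T, det_diagonal, Units.coe_prod]

theorem τ_mem (t : ↥T) : ∏ i, L.τ t i ∈ L.Δ := by
  obtain ⟨δ, h1, h2⟩ := L.T_det t t.2
  rw [L.det_T, Units.val_inj] at h2
  exact h2 ▸ h1

theorem τ_surj {d : Fin (k + 1) → Fˣ} (hd : ∏ i, d i ∈ L.Δ) : ∃ t, L.τ t = d := by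
  have h1 : d = (∏ a, (Pi.mulSingle a (d a) * Pi.mulSingle (Fin.last k) (d a)⁻¹ : Fin (k + 1) → Fˣ)) *
      Pi.mulSingle (Fin.last k) (∏ i, d i) := by
    rw [prod_mul_distrib, univ_prod_mulSingle, mul_assoc]
    change d = d * ((∏ a, MonoidHom.mulSingle (fun _ => Fˣ) (Fin.last k) (d a)⁻¹) *
      MonoidHom.mulSingle (fun _ => Fˣ) (Fin.last k) (∏ i, d i))
    rw [← map_prod, ← map_mul, prod_inv_distrib, inv_mul_cancel, map_one, mul_one]
  change d ∈ L.τ.range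
  rw [h1]
  refine mul_mem (prod_mem fun a _ => ?_) ?_
  · by_cases ha : a = Fin.last k
    · rw [ha, ← Pi.mulSingle_mul, mul_inv_cancel, Pi.mulSingle_one]
      exact one_mem _
    · obtain ⟨t, ht, e⟩ := L.T_two a (d a) ha
      exact ⟨⟨t, ht⟩, L.τ_eq e⟩
  · obtain ⟨t, ht, e⟩ := L.T_last _ hd
    exact ⟨⟨t, ht⟩, L.τ_eq e⟩

/-! ### the Weyl group -/

/-- the nodes inside the blocks -/
def Jb (β : Fin (k + 1) → ℕ) : Set I := L.ι '' {i | β i.castSucc = β i.succ}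

theorem Jb_le (β : Fin (k + 1) → ℕ) : WJ cs (L.Jb β) ≤ WJ cs (Set.range L.ι) :=
  Subgroup.closure_mono (Set.image_mono (Set.image_subset_range _ _))

theorem exists_pw {β : Fin (k + 1) → ℕ} (hβ : Monotone β) {σ : Perm (Fin (k + 1))} (hσ : ∀ i, β (σ i) = β i) :
    ∃ w ∈ WJ cs (L.Jb β), L.pw w = σ := by
  refine (Subgroup.closure_le (K := (WJ cs (L.Jb β)).map L.pw)).2 ?_ (mem_closure_adj hβ hσ)
  rintro _ ⟨i, hi, rfl⟩
  exact ⟨_, Subgroup.subset_closure ⟨_, ⟨i, hi, rfl⟩, rfl⟩, L.pw_in i⟩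

theorem exists_pw' (σ : Perm (Fin (k + 1))) : ∃ w ∈ WJ cs (Set.range L.ι), L.pw w = σ := by
  obtain ⟨w, h1, h2⟩ := L.exists_pw (β := fun _ => 0) monotone_const (σ := σ) fun _ => rfl
  exact ⟨w, L.Jb_le _ h1, h2⟩

theorem pw_Jb {β : Fin (k + 1) → ℕ} {w : W} (hw : w ∈ WJ cs (L.Jb β)) (i : Fin (k + 1)) : β (L.pw w i) = β i := by
  induction hw using Subgroup.closure_induction_left generalizing i with
  | one => rw [map_one]; rfl
  | mul_left x hx y _ ih =>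
    obtain ⟨_, ⟨j, hj, rfl⟩, rfl⟩ := hx
    rw [map_mul, Perm.mul_apply, L.pw_in, ← ih i]
    exact apply_swap_eq_self hj _
  | inv_mul_cancel x hx y _ ih =>
    obtain ⟨_, ⟨j, hj, rfl⟩, rfl⟩ := hx
    rw [inv_simple, map_mul, Perm.mul_apply, L.pw_in, ← ih i]
    exact apply_swap_eq_self hj _

theorem mon_rp {w : W} (hw : w ∈ WJ cs (Set.range L.ι)) {g : Y} (hg : Rp cs R.nsys w g) :
    g ∈ L.P ∧ IsMon (L.pw w) (L.ρ g) ∧ ∃ δ ∈ L.Δ, (L.ρ g).det = δ := by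
  have key : ∀ (i : Fin k) (y : W), (∀ g, Rp cs R.nsys y g →
      g ∈ L.P ∧ IsMon (L.pw y) (L.ρ g) ∧ ∃ δ ∈ L.Δ, (L.ρ g).det = δ) → ∀ g, Rp cs R.nsys (cs.simple (L.ι i) * y) g →
      g ∈ L.P ∧ IsMon (L.pw (cs.simple (L.ι i) * y)) (L.ρ g) ∧ ∃ δ ∈ L.Δ, (L.ρ g).det = δ := by
    intro i y ih g hg
    have h1 := (rp_simple cs R.nsys (L.ι i)).inv.mul hg
    rw [inv_mul_cancel_left] at h1
    obtain ⟨h2, h3, δ, h4, h5⟩ := ih _ h1
    have h6 : g = n (L.ι i) * ((n (L.ι i))⁻¹ * g) := by group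
    rw [h6, L.mul _ (L.n_mem i) _ h2, map_mul, L.pw_in]
    exact ⟨mul_mem (L.n_mem i) h2, (L.n_mon i).mul h3, δ, h4, by rw [det_mul, L.n_det, one_mul, h5]⟩
  induction hw using Subgroup.closure_induction_left generalizing g with
  | one => exact ⟨L.T_le hg.mem_of_one, map_one L.pw ▸ L.T_diag g hg.mem_of_one, L.T_det g hg.mem_of_one⟩
  | mul_left x hx y _ ih =>
    obtain ⟨_, ⟨j, rfl⟩, rfl⟩ := hx
    exact key j y (fun _ => ih) g hg
  | inv_mul_cancel x hx y _ ih =>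
    obtain ⟨_, ⟨j, rfl⟩, rfl⟩ := hx
    rw [inv_simple] at hg ⊢
    exact key j y (fun _ => ih) g hg

theorem τ_conj {w : W} (hw : w ∈ WJ cs (Set.range L.ι)) {g : Y} (hg : Rp cs R.nsys w g) (t : ↥T) :
    L.τ ⟨g⁻¹ * t * g, conj_T' R hg t.2⟩ = fun j => L.τ t (L.pw w j) := by
  obtain ⟨h1, h2, -⟩ := L.mon_rp hw hg
  refine L.τ_eq ?_
  change L.ρ (g⁻¹ * t * g) = _
  rw [L.mul _ (mul_mem (inv_mem h1) (L.T_le t.2)) g h1, L.mul _ (inv_mem h1) _ (L.T_le t.2), mul_assoc, L.ρ_T,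
    h2.diag_mul, ← mul_assoc, L.inv_mul h1, one_mul]

/-- `ρ` is injective on the representatives of `W_A` -/
theorem eq_of_rp {v w : W} (hv : v ∈ WJ cs (Set.range L.ι)) (hw : w ∈ WJ cs (Set.range L.ι)) {g g' : Y}
    (hg : Rp cs R.nsys v g) (hg' : Rp cs R.nsys w g') (e : L.ρ g = L.ρ g') : g = g' := by
  have h1 := hg.mul hg'.inv
  have h2 := mul_mem hv (inv_mem hw)
  have h3 : L.ρ (g * g'⁻¹) = 1 := by
    rw [L.mul _ (L.mon_rp hv hg).1 _ (inv_mem (L.mon_rp hw hg').1), e, L.mul_inv (L.mon_rp hw hg').1]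
  have h4 : L.pw (v * w⁻¹) = 1 := by
    ext i
    rw [← (L.mon_rp h2 h1).2.1 i i (by rw [h3, one_apply_eq]; exact one_ne_zero)]
    rfl
  rw [L.pw_inj _ h2 h4] at h1
  exact mul_inv_eq_one.1 (L.T_inj _ h1.mem_of_one h3)

/-- the lift of a monomial matrix -/
theorem exists_lift {β : Fin (k + 1) → ℕ} (hβ : Monotone β) {σ : Perm (Fin (k + 1))} (hσ : ∀ i, β (σ i) = β i)
    {G : Matrix (Fin (k + 1)) (Fin (k + 1)) F} (hG : IsMon σ G) {δ : Fˣ} (hδ : δ ∈ L.Δ) (hd : G.det = δ) :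
    ∃ w ∈ WJ cs (L.Jb β), ∃ g, Rp cs R.nsys w g ∧ L.ρ g = G := by
  obtain ⟨w, h1, rfl⟩ := L.exists_pw hβ hσ
  obtain ⟨g, hg⟩ := exists_rp cs R.nsys w
  obtain ⟨h2, h3, δ', h4, h5⟩ := L.mon_rp (L.Jb_le β h1) hg
  have h6 := h3.ne_zero (L.det_ne h2)
  have h7 := hG.ne_zero (hd ▸ δ.ne_zero)
  let d : Fin (k + 1) → Fˣ := fun j => (Units.mk0 _ (h6 j))⁻¹ * Units.mk0 _ (h7 j)
  have h8 : L.ρ g * diagonal (fun j => (d j : F)) = G := by
    rw [h3.eq, hG.eq, ← mon_one, mon_mul, mul_one]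
    congr 1
    ext j
    simp [d, h6 j]
  have h9 : ∏ j, d j = δ'⁻¹ * δ := by
    rw [eq_inv_mul_iff_mul_eq, ← Units.val_inj, Units.val_mul, ← h5, ← hd, ← h8, det_mul, det_diagonal, Units.coe_prod]
  obtain ⟨t, ht⟩ := L.τ_surj (h9 ▸ mul_mem (inv_mem h4) hδ)
  exact ⟨w, h1, g * t, hg.mul_mem_right t.2, by rw [L.mul g h2 _ (L.T_le t.2), L.ρ_T, ht, h8]⟩

/-! ### the characters of the torus -/

/-- `lam t = ∏ f i (t i)` -/
def Rep (f : Fin (k + 1) → Fˣ →* ℂˣ) (lam : ↥T →* ℂˣ) : Prop := ∀ t, lam t = ev f (L.τ t)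

theorem exists_rep (lam : ↥T →* ℂˣ) : ∃ f, L.Rep f lam := by
  have : NeZero ((Monoid.exponent (Fin (k + 1) → Fˣ) : ℕ) : ℂ) := ⟨Nat.cast_ne_zero.2 Monoid.exponent_ne_zero_of_finite⟩
  obtain ⟨Λ, hΛ⟩ := MonoidHom.domRestrict_surjective ℂ L.τ.range
    (lam.comp (MonoidHom.ofInjective L.τ_inj).symm.toMonoidHom)
  refine ⟨fun i => Λ.comp (MonoidHom.mulSingle (fun _ => Fˣ) i), fun t => ?_⟩
  have h1 := DFunLike.congr_fun hΛ (MonoidHom.ofInjective L.τ_inj t)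
  have h2 : Λ (L.τ t) = lam t := h1.trans (congrArg lam (MulEquiv.symm_apply_apply _ t))
  rw [← h2, ev_apply]
  conv_lhs => rw [← univ_prod_mulSingle (L.τ t), map_prod]
  rfl

variable {L} {f f' : Fin (k + 1) → Fˣ →* ℂˣ} {lam nu : ↥T →* ℂˣ}

theorem Rep.uniq (h1 : L.Rep f lam) (h2 : L.Rep f' lam) :
    ∃ κ : Fˣ →* ℂˣ, (∀ δ ∈ L.Δ, κ δ = 1) ∧ ∀ i x, f' i x = κ x * f i x := by
  have key : ∀ d : Fin (k + 1) → Fˣ, ∏ i, d i ∈ L.Δ → ev f' d = ev f d := fun d hd => by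
    obtain ⟨t, rfl⟩ := L.τ_surj hd
    rw [← h1, ← h2]
  refine ⟨f' 0 / f 0, fun δ hδ => ?_, fun i x => ?_⟩
  · have h3 := key (Pi.mulSingle 0 δ) (by simpa using hδ)
    rw [ev_single, ev_single] at h3
    rw [MonoidHom.div_apply, h3, div_self']
  · have h3 := key (Pi.mulSingle i x * Pi.mulSingle 0 x⁻¹) (by simp [prod_mul_distrib])
    rw [map_mul, map_mul, ev_single, ev_single, ev_single, ev_single, map_inv, map_inv, mul_inv_eq_iff_eq_mul] at h3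
    rw [MonoidHom.div_apply, h3, div_eq_mul_inv, mul_comm, mul_comm (f i x), mul_assoc]

theorem Rep.eq (h1 : L.Rep f lam) (h2 : L.Rep f nu) : lam = nu := MonoidHom.ext fun t => (h1 t).trans (h2 t).symm

theorem Rep.conj (hf : L.Rep f lam) {w : W} (hw : w ∈ WJ cs (Set.range L.ι)) {g : Y} (hg : Rp cs R.nsys w g)
    (hc : Cj T nu lam g) : L.Rep (fun i => f ((L.pw w).symm i)) nu := fun t => by
  rw [hc t t.2 (conj_T' R hg t.2), hf, L.τ_conj hw hg, ev_apply, ev_apply]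
  exact Fintype.prod_equiv (L.pw w) _ _ fun i => by rw [symm_apply_apply]

variable (L) in
/-- the sign changes fix `lam` -/
def Ef (lam : ↥T →* ℂˣ) : Prop := ∀ w, L.pw w = 1 → w ∈ Wst R lam

theorem Rep.conj' (hf : L.Rep f lam) (he : L.Ef lam) {w : W} {g : Y} (hg : Rp cs R.nsys w g) (hc : Cj T nu lam g) :
    L.Rep (fun i => f ((L.pw w).symm i)) nu := by
  obtain ⟨a, h1, h2⟩ := L.exists_pw' (L.pw w)
  obtain ⟨g', hg'⟩ := exists_rp cs R.nsys a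
  have h3 := cj_of_mem R L.T_comm (he (a⁻¹ * w) (by rw [map_mul, map_inv, h2, inv_mul_cancel])) (hg'.inv.mul hg)
  rw [← h2]
  refine hf.conj h1 hg' fun t ht ht' => ?_
  rw [hc t ht (conj_T' R hg ht), h3 _ ht' (conj_T' R (hg'.inv.mul hg) ht')]
  congr 2
  group

theorem cj_cjl {hN : NSys M T n} {w : W} {g : Y} (hg : Rp cs hN w g) (lam : ↥T →* ℂˣ) : Cj T (cjl hg.mem_normalizer lam) lam g :=
  fun _ _ _ => rfl

theorem mem_Wst_conj (hc : ∀ a ∈ T, ∀ b ∈ T, a * b = b * a) {x w : W} {g : Y} (hg : Rp cs R.nsys x g)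
    (hn : Cj T nu lam g) (hw : x⁻¹ * w * x ∈ Wst R lam) : w ∈ Wst R nu := by
  obtain ⟨g', hg'⟩ := exists_rp cs R.nsys w
  refine ⟨g', hg', fun t ht ht' => ?_⟩
  have h1 := (hg.inv.mul hg').mul hg
  rw [hn t ht (conj_T' R hg ht), hn _ ht' (conj_T' R hg ht'),
    cj_of_mem R hc hw h1 _ (conj_T' R hg ht) (conj_T' R h1 (conj_T' R hg ht))]
  congr 2
  group

theorem Ef.conj (he : L.Ef lam) {x : W} {g : Y} (hg : Rp cs R.nsys x g) (hn : Cj T nu lam g) : L.Ef nu :=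
  fun w hw => mem_Wst_conj L.T_comm hg hn (he _ (by rw [map_mul, map_mul, hw, map_inv, mul_one, inv_mul_cancel]))

/-- the twist of an element of the stabiliser -/
theorem Rep.twist (hf : L.Rep f lam) (he : L.Ef lam) {w : W} (hw : w ∈ Wst R lam) :
    ∃ κ : Fˣ →* ℂˣ, (∀ δ ∈ L.Δ, κ δ = 1) ∧ ∀ i x, f (L.pw w i) x = κ x * f i x := by
  obtain ⟨g, hg, hc⟩ := inv_mem hw
  obtain ⟨κ, h1, h2⟩ := hf.uniq (hf.conj' he hg hc)
  exact ⟨κ, h1, fun i x => by rw [← h2, map_inv]; rfl⟩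

variable (L) in
/-- good characters -/
structure Gd (β : Fin (k + 1) → ℕ) (f : Fin (k + 1) → Fˣ →* ℂˣ) (lam : ↥T →* ℂˣ) : Prop where
  blk : Blk β
  rep : L.Rep f lam
  ef : L.Ef lam
  tr : ∀ i j, β i = β j → ∃ w ∈ Wst R lam, L.pw w * L.pw w = 1 ∧ L.pw w i = j ∧ ∀ l, β l ≠ β i → L.pw w l = l

variable (L) in
theorem exists_gd {β : Fin (k + 1) → ℕ} (hβ : Blk β) (hl : Odd (Wst R lam).index) :
    ∃ (nu : ↥T →* ℂˣ) (f : Fin (k + 1) → Fˣ →* ℂˣ) (g : Y), g ∈ NN cs R.nsys ∧ Cj T nu lam g ∧ L.Gd β f nu := by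
  obtain ⟨C, h1, h2⟩ := hβ.exists_ea
  have hQ : IsPGroup 2 (C.comap L.pw) := fun w => ⟨2, Subtype.ext (by
    have h3 := L.pw_sq (w * w) (by rw [map_mul]; exact h1 _ w.2)
    change (w : W) ^ (2 + 2) = 1
    rw [pow_add, pow_two, h3])⟩
  obtain ⟨x, hx⟩ := exists_conj_le hl hQ
  obtain ⟨g, hg⟩ := exists_rp cs R.nsys x
  obtain ⟨f, hf⟩ := L.exists_rep (cjl hg.mem_normalizer lam)
  have h3 : ∀ w, L.pw w ∈ C → w ∈ Wst R (cjl hg.mem_normalizer lam) := fun w hw =>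
    mem_Wst_conj L.T_comm hg (cj_cjl hg lam) (hx w hw)
  refine ⟨_, f, g, ⟨x, hg⟩, cj_cjl hg lam, hβ, hf, fun w hw => h3 w (hw ▸ one_mem C), fun i j hij => ?_⟩
  obtain ⟨σ, h4, h5, h6⟩ := h2 i j hij
  obtain ⟨w, -, rfl⟩ := L.exists_pw' σ
  exact ⟨w, h3 w h4, h1 _ h4, h5, h6⟩

variable {β : Fin (k + 1) → ℕ}

/-- **the dichotomy** -/
theorem Gd.dich (G : L.Gd β f lam) : (Bc β f ∧ (L.Δ = ⊤ ∨ ∀ i, ∃ l, β l ≠ β i)) ∨
    ((∀ i j x, f i x ^ 2 = f j x ^ 2) ∧ ∀ t, lam t ^ 2 = 1) := by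
  by_cases h1 : L.Δ = ⊤ ∨ ∀ i, ∃ l, β l ≠ β i
  · refine Or.inl ⟨fun i j hij => ?_, h1⟩
    obtain ⟨w, h2, -, h3, h4⟩ := G.tr i j hij
    obtain ⟨κ, h5, h6⟩ := G.rep.twist G.ef h2
    have h7 : ∀ x, κ x = 1 := by
      intro x
      rcases h1 with h1 | h1
      · exact h5 x (h1 ▸ Subgroup.mem_top x)
      · obtain ⟨l, hl⟩ := h1 i
        have h8 := h6 l x
        rw [h4 l hl] at h8
        exact mul_eq_right.1 h8.symm
    exact MonoidHom.ext fun x => by rw [← h3, h6, h7, one_mul]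
  · push Not at h1
    obtain ⟨h1, i0, h2⟩ := h1
    have h3 : ∀ i j x, f i x ^ 2 = f j x ^ 2 := by
      intro i j x
      obtain ⟨w, h2, h3, h4, -⟩ := G.tr i j ((h2 i).trans (h2 j).symm)
      obtain ⟨κ, -, h6⟩ := G.rep.twist G.ef h2
      have h7 := h6 (L.pw w i) x
      rw [← Perm.mul_apply, h3, h6, ← mul_assoc, Perm.one_apply, eq_comm, mul_eq_right] at h7
      rw [← h4, h6, mul_pow, pow_two (κ x), h7, one_mul]
    refine Or.inr ⟨h3, fun t => ?_⟩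
    obtain ⟨s, hs⟩ := L.τ_surj (d := Pi.mulSingle (Fin.last k) (∏ i, L.τ t i)) (by simpa using L.τ_mem t)
    have h4 := L.dich.resolve_left h1 lam (fun j hj => cj_of_mem R L.T_comm (G.ef _ (L.pw_out j hj))
      (rp_simple cs R.nsys j)) s s.2 fun a ha => by rw [← τ_val, hs, Pi.mulSingle_eq_of_ne ha, Units.val_one]
    rw [G.rep, hs, ev_single] at h4
    rw [G.rep, ev_apply, ← prod_pow, prod_congr rfl fun i _ => h3 i (Fin.last k) _, prod_pow, ← map_prod, h4, one_pow]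

theorem _root_.Cfsg.Agent.ODD.FA.Blk.twist (hβ : Blk β) (hf : Bc β f) {σ : Perm (Fin (k + 1))} {κ : Fˣ →* ℂˣ}
    (hσ : ∀ i x, f (σ i) x = κ x * f i x) (x : Fˣ) : κ x = 1 := by
  have h1 := hβ.eq_of_comp hf σ (fun i j hij => MonoidHom.ext fun y =>
    (hσ i y).trans (by rw [hf i j hij]; exact (hσ j y).symm)) 0
  exact mul_eq_right.1 ((hσ 0 x).symm.trans (DFunLike.congr_fun h1 x))

/-! ### the good reflections -/

theorem zet_in (hf : L.Rep f lam) {i : Fin k} (hi : f i.castSucc = f i.succ) : zet R (L.ι i) lam ≠ 0 := by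
  refine zet_ne_of_one R fun x hx hx1 => ?_
  obtain ⟨ht, a, ha, b, hb, e⟩ := tx_spec R hx hx1
  have hU : ∀ y ∈ X (sr (L.ι i)), y ∈ UU cs h X := fun y hy =>
    RGD.le_Sup (S := RGD.Pos cs h) ⟨isRoot_sr cs h _, sr_nonneg _⟩ hy
  have hn := L.n_mem i
  have hdet : ∀ y ∈ X (sr (L.ι i)), (L.ρ y).det = 1 := fun y hy => by
    rw [det_of_isUpperTriangular fun a b hab => (L.U_tri y (hU y hy) a b hab.le).trans (one_apply_ne hab.ne')]
    exact prod_eq_one fun a _ => (L.U_tri y (hU y hy) a a le_rfl).trans (one_apply_eq a)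
  have e' : L.ρ (n (L.ι i)) * L.ρ x = L.ρ a * L.ρ (tx R (L.ι i) x) * L.ρ (n (L.ι i)) * L.ρ b * L.ρ (n (L.ι i)) := by
    have h1 := L.U_le (hU a ha)
    have h2 := L.T_le ht
    have h3 := L.U_le (hU b hb)
    rw [← L.mul _ hn _ (L.U_le (hU x hx)), ← L.mul _ h1 _ h2, ← L.mul _ (mul_mem h1 h2) _ hn,
      ← L.mul _ (mul_mem (mul_mem h1 h2) hn) _ h3, ← L.mul _ (mul_mem (mul_mem (mul_mem h1 h2) hn) h3) _ hn, ← e,
      inv_mul_cancel_right]
  have h1 : ∏ j, L.τ ⟨_, ht⟩ j = 1 := by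
    have h2 := congrArg det e'
    simp only [det_mul, L.n_det, hdet x hx, hdet a ha, hdet b hb, one_mul, mul_one] at h2
    rw [← Units.val_inj, ← L.det_T, ← h2, Units.val_one]
  have h2 : ∀ j, j ≠ i.castSucc → j ≠ i.succ → L.τ ⟨_, ht⟩ j = 1 := by
    intro j hj hj'
    have h3 : ∀ y ∈ X (sr (L.ι i)), L.ρ y *ᵥ Pi.single j 1 = Pi.single j 1 := fun y hy => by
      ext l
      rw [mulVec_single_one, col_apply, L.X_fix i y hy l j hj', one_apply, Pi.single_apply]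
    have h4 : L.ρ (n (L.ι i)) *ᵥ Pi.single j 1 = Pi.single j 1 := by
      ext l
      rw [mulVec_single_one, col_apply, Pi.single_apply]
      split_ifs with hl
      · rw [hl, L.n_fix i j hj hj']
      · by_contra h5
        exact hl ((L.n_mon i l j h5).trans (swap_apply_of_ne_of_ne hj hj'))
    have h5 := congrArg (· *ᵥ (Pi.single j 1 : Fin (k + 1) → F)) e'
    simp only [← mulVec_mulVec, h4, h3 x hx, h3 b hb] at h5
    rw [L.ρ_T ⟨_, ht⟩, diagonal_mulVec_single, ← smul_eq_mul, Pi.single_smul, mulVec_smul, h3 a ha] at h5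
    have h6 := congrFun h5 j
    rw [Pi.smul_apply, Pi.single_eq_same, smul_eq_mul, mul_one] at h6
    exact Units.ext h6.symm
  rw [hf, ev_apply, prod_congr rfl fun j _ => show f j (L.τ ⟨_, ht⟩ j) = f i.succ (L.τ ⟨_, ht⟩ j) from ?_,
    ← map_prod, h1, map_one]
  by_cases hj : j = i.castSucc
  · rw [hj, hi]
  · by_cases hj' : j = i.succ
    · rw [hj']
    · rw [h2 j hj hj', map_one, map_one]

theorem Ef.mem_Rg (he : L.Ef lam) {w : W} (hw : L.pw w = 1) : w ∈ Rg R lam := by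
  have h1 : Subgroup.normalClosure (cs.simple '' (Set.range L.ι)ᶜ) ≤ Rg R lam ⊓ L.pw.ker := by
    refine (Subgroup.closure_le _).2 fun x hx => ?_
    obtain ⟨_, ⟨j, hj, rfl⟩, hx⟩ := Group.mem_conjugatesOfSet_iff.1 hx
    obtain ⟨c, rfl⟩ := isConj_iff.1 hx
    obtain ⟨g, hg⟩ := exists_rp cs R.nsys c⁻¹
    refine ⟨?_, by simp [L.pw_out j hj]⟩
    have h2 := PS.mem_Rg R hg (L.znode j hj _ (cj_of_mem R L.T_comm ((he.conj hg (cj_cjl hg lam)) _ (L.pw_out j hj))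
      (rp_simple cs R.nsys j)))
    rwa [inv_inv] at h2
  have h2 : ∀ w : W, ∃ a ∈ WJ cs (Set.range L.ι), w * a⁻¹ ∈ Subgroup.normalClosure (cs.simple '' (Set.range L.ι)ᶜ) := by
    intro w
    induction w using cs.simple_induction_left with
    | one => exact ⟨1, one_mem _, by simp⟩
    | mul_simple_left w i ih => ?_
    obtain ⟨a, ha, h3⟩ := ih
    by_cases hi : i ∈ Set.range L.ι
    · refine ⟨cs.simple i * a, mul_mem (Subgroup.subset_closure ⟨i, hi, rfl⟩) ha, ?_⟩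
      have h4 := Subgroup.normalClosure_normal.conj_mem _ h3 (cs.simple i)
      rwa [show cs.simple i * w * (cs.simple i * a)⁻¹ = cs.simple i * (w * a⁻¹) * (cs.simple i)⁻¹ by group]
    · exact ⟨a, ha, by rw [mul_assoc]; exact mul_mem (Subgroup.subset_normalClosure ⟨i, hi, rfl⟩) h3⟩
  obtain ⟨a, ha, h3⟩ := h2 w
  have h4 : L.pw (w * a⁻¹) = 1 := (h1 h3).2
  rw [map_mul, hw, one_mul] at h4
  rw [L.pw_inj _ (inv_mem ha) h4, mul_one] at h3
  exact (h1 h3).1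

theorem Rep.mem_Rg (hf : L.Rep f lam) (he : L.Ef lam) {w : W} (hw : ∀ i, f (L.pw w i) = f i) : w ∈ Rg R lam := by
  have h1 : L.pw w ∈ (Rg R lam).map L.pw := by
    refine (Subgroup.closure_le _).2 ?_ (mem_closure_swap hw)
    rintro _ ⟨i, j, hij, h2, rfl⟩
    obtain ⟨i0⟩ : Nonempty (Fin k) := by
      rcases k with _ | k
      · exact absurd (Subsingleton.elim (α := Fin 1) i j) hij
      · exact ⟨0⟩
    obtain ⟨σ, h3, h4⟩ : ∃ σ : Perm (Fin (k + 1)), σ i0.castSucc = i ∧ σ i0.succ = j := by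
      refine ⟨swap (swap i0.castSucc i i0.succ) j * swap i0.castSucc i, ?_, swap_apply_left _ _⟩
      rw [Perm.mul_apply, swap_apply_left, swap_apply_of_ne_of_ne _ hij]
      intro h3
      exact i0.castSucc_lt_succ.ne ((swap i0.castSucc i).injective ((swap_apply_left _ _).trans h3))
    obtain ⟨a, h5, h6⟩ := L.exists_pw' σ⁻¹
    obtain ⟨g, hg⟩ := exists_rp cs R.nsys a
    have h7 := hf.conj h5 hg (cj_cjl hg lam)
    refine ⟨_, PS.mem_Rg R hg (zet_in h7 (i := i0) ?_), ?_⟩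
    · rw [h6]
      change f (σ _) = f (σ _)
      rw [h3, h4, h2]
    · rw [map_mul, map_mul, map_inv, h6, inv_inv, L.pw_in, ← swap_apply_apply, h3, h4]
  obtain ⟨v, h2, h3⟩ := h1
  have h4 := mul_mem (he.mem_Rg (w := w * v⁻¹) (by rw [map_mul, map_inv, h3, mul_inv_cancel])) h2
  rwa [inv_mul_cancel_right] at h4

/-- **the squares are products of good reflections** -/
theorem Gd.sq (G : L.Gd β f lam) : ∀ w ∈ Wst R lam, w * w ∈ Rg R lam := by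
  intro w hw
  obtain ⟨κ, -, h1⟩ := G.rep.twist G.ef hw
  refine G.rep.mem_Rg G.ef fun i => MonoidHom.ext fun x => ?_
  have h2 : κ x * κ x = 1 := by
    rcases G.dich with h2 | h2
    · rw [G.blk.twist h2.1 h1, one_mul]
    · have h3 := h2.1 (L.pw w 0) 0 x
      rwa [h1, mul_pow, mul_eq_right, pow_two] at h3
  rw [map_mul, Perm.mul_apply, h1, h1, ← mul_assoc, h2, one_mul]

end LD

end Cfsg.Agent.ODD.FA
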