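import Mathlib

/-!
# ODD, box FA: generators of the Sylow `2`-subgroup of `Fˣ` and irreducible `2`-elements (helper35)

* `Gn e w` : `w ^ 2 ^ e = -1`, `1 ≤ e` and `2 ^ (e + 2)` does not divide `|F| - 1`;
* `Gn.le_finrank` : a non-zero subspace on which `c ^ 2 ^ b = w` has dimension at least `2 ^ b`.
-/

set_option autoImplicit false

namespace Cfsg.Agent.ODD.FA

open Module

theorem dvd_card_of_free {A : Type*} [Finite A] (f : Equiv.Perm A) {n : ℕ} (h1 : f ^ 2 ^ (n + 1) = 1)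
    (h2 : ∀ a, (f ^ 2 ^ n) a ≠ a) : 2 ^ (n + 1) ∣ Nat.card A := by
  rcases isEmpty_or_nonempty A with hA | ⟨⟨a0⟩⟩
  · rw [Nat.card_of_isEmpty]
    exact dvd_zero _
  have : Fact (Nat.Prime 2) := ⟨Nat.prime_two⟩
  have ho : orderOf f = 2 ^ (n + 1) := orderOf_eq_prime_pow (fun e => h2 a0 (by rw [e]; rfl)) h1
  have hs : ∀ a : A, MulAction.stabilizer (Subgroup.zpowers f) a = ⊥ := by
    intro a
    rw [eq_bot_iff]
    rintro ⟨g, hg⟩ ha
    obtain ⟨k, rfl⟩ := (mem_powers_iff_mem_zpowers.2 hg)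
    have ha' : (f ^ k) a = a := ha
    rw [Subgroup.mem_bot]
    apply Subtype.ext
    change f ^ k = 1
    rcases Nat.eq_zero_or_pos k with rfl | hk
    · exact pow_zero f
    obtain ⟨i, m, ⟨j, rfl⟩, rfl⟩ := Nat.exists_eq_two_pow_mul_odd hk.ne'
    by_cases hi : n + 1 ≤ i
    · obtain ⟨l, rfl⟩ := Nat.exists_eq_add_of_le hi
      rw [pow_add 2 (n + 1) l, mul_assoc, pow_mul, h1, one_pow]
    · obtain ⟨l, rfl⟩ := Nat.exists_eq_add_of_le (show i ≤ n by omega)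
      exfalso
      apply h2 a
      have h3 : (f ^ (2 ^ i * (2 * j + 1))) ^ 2 ^ l = f ^ 2 ^ (i + l) := by
        rw [← pow_mul, show 2 ^ i * (2 * j + 1) * 2 ^ l = 2 ^ (i + l + 1) * j + 2 ^ (i + l) by ring, pow_add, pow_mul,
          h1, one_pow, one_mul]
      rw [← h3]
      exact Equiv.Perm.pow_apply_eq_self_of_apply_eq_self ha' _
  rw [Nat.card_congr (MulAction.selfEquivOrbitsQuotientProd hs), Nat.card_prod, Nat.card_zpowers, ho]
  exact dvd_mul_left _ _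

theorem lte {Q d e b : ℕ} (hQ : 1 ≤ Q) (he : 1 ≤ e) (h1 : 2 ^ (e + 1) ∣ Q - 1) (h2 : ¬ 2 ^ (e + 2) ∣ Q - 1)
    (h3 : 2 ^ (b + e + 1) ∣ Q ^ d - 1) : 2 ^ b ∣ d := by
  have c1 : ((Q - 1 : ℕ) : ℤ) = (Q : ℤ) - 1 := by push_cast [hQ]; ring
  have c2 : ((Q ^ d - 1 : ℕ) : ℤ) = (Q : ℤ) ^ d - 1 ^ d := by
    rw [one_pow, Nat.cast_sub (Nat.one_le_pow _ _ hQ)]
    push_cast
    ring
  have i1 : (2 : ℤ) ^ (e + 1) ∣ (Q : ℤ) - 1 := by rw [← c1]; exact_mod_cast h1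
  have i2 : ¬ (2 : ℤ) ^ (e + 2) ∣ (Q : ℤ) - 1 := by rw [← c1]; exact_mod_cast h2
  have i3 : (2 : ℤ) ^ (b + e + 1) ∣ (Q : ℤ) ^ d - 1 ^ d := by rw [← c2]; exact_mod_cast h3
  have i4 : (4 : ℤ) ∣ (Q : ℤ) - 1 := (pow_dvd_pow (2 : ℤ) (show 2 ≤ e + 1 by omega)).trans i1
  have i5 : ¬ (2 : ℤ) ∣ (Q : ℤ) := by omega
  have h4 := Int.two_pow_sub_pow' d i4 i5
  have h5 : emultiplicity (2 : ℤ) ((Q : ℤ) - 1) = (e + 1 : ℕ) := emultiplicity_eq_coe.2 ⟨i1, i2⟩
  have h6 := pow_dvd_iff_le_emultiplicity.1 i3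
  rw [h4, h5, show b + e + 1 = (e + 1) + b by ring, Nat.cast_add] at h6
  have h7 : (b : ℕ∞) ≤ emultiplicity (2 : ℤ) (d : ℤ) := (ENat.add_le_add_iff_left (ENat.natCast_ne_top _)).1 h6
  exact_mod_cast pow_dvd_iff_le_emultiplicity.2 h7

variable {F : Type*} [Field F]

/-- `w` generates the Sylow `2`-subgroup of `Fˣ`, of order `2 ^ (e + 1) ≥ 4` -/
structure Gn (e : ℕ) (w : F) : Prop where
  pos : 1 ≤ e
  pow : w ^ 2 ^ e = -1
  nd : ¬ 2 ^ (e + 2) ∣ Nat.card F - 1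
  two : (2 : F) ≠ 0

namespace Gn

variable {e : ℕ} {w : F} (h : Gn e w)
include h

theorem neg_ne : (-1 : F) ≠ 1 := fun e => h.two (by linear_combination -e)

theorem pow' : w ^ 2 ^ (e + 1) = 1 := by rw [pow_succ, pow_mul, h.pow]; norm_num

theorem ne_zero : w ≠ 0 := by
  rintro rfl
  have h1 := h.pow'
  rw [zero_pow (by positivity)] at h1
  exact zero_ne_one h1

theorem neg : Gn e (-w) := by
  refine ⟨h.pos, ?_, h.nd, h.two⟩
  rw [Even.neg_pow (Nat.even_pow.2 ⟨even_two, by have := h.pos; omega⟩), h.pow]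

theorem inv : Gn e w⁻¹ := ⟨h.pos, by rw [inv_pow, h.pow, inv_neg, inv_one], h.nd, h.two⟩

theorem pow_odd {k : ℕ} (hk : Odd k) : Gn e (w ^ k) :=
  ⟨h.pos, by rw [← pow_mul, mul_comm, pow_mul, h.pow, hk.neg_one_pow], h.nd, h.two⟩

theorem ne_sq {y : F} (hy : y ^ 2 ^ (e + 1) = 1) {j : ℕ} (hj : j ≠ 0) : w ≠ y ^ 2 ^ j := by
  rintro rfl
  obtain ⟨i, rfl⟩ := Nat.exists_eq_succ_of_ne_zero hj
  apply h.neg_ne
  rw [← h.pow, ← pow_mul, show 2 ^ i.succ * 2 ^ e = 2 ^ (e + 1) * 2 ^ i by rw [pow_succ, pow_succ]; ring, pow_mul, hy,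
    one_pow]

theorem ne_one : w ≠ 1 := fun e => h.ne_sq (y := 1) (one_pow _) one_ne_zero (by rw [e, one_pow])

theorem prim : IsPrimitiveRoot w (2 ^ (e + 1)) := by
  have : Fact (Nat.Prime 2) := ⟨Nat.prime_two⟩
  rw [IsPrimitiveRoot.iff_orderOf]
  exact orderOf_eq_prime_pow (by rw [h.pow]; exact h.neg_ne) h.pow'

theorem dvd [Finite F] : 2 ^ (e + 1) ∣ Nat.card F - 1 := by
  have := Fintype.ofFinite F
  rw [Nat.card_eq_fintype_card]
  exact h.prim.dvd_of_pow_eq_one _ (FiniteField.pow_card_sub_one_eq_one w h.ne_zero)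

/-- the `2`-elements are powers of `w` -/
theorem exists_pow [Finite F] {y : F} {k : ℕ} (hy : y ^ 2 ^ k = 1) : ∃ i : ℕ, w ^ i = y := by
  have := Fintype.ofFinite F
  have h0 : y ≠ 0 := by
    rintro rfl
    rw [zero_pow (by positivity)] at hy
    exact zero_ne_one hy
  obtain ⟨j, -, hj⟩ := (Nat.dvd_prime_pow Nat.prime_two).1 (orderOf_dvd_of_pow_eq_one hy)
  have h1 : 2 ^ j ∣ Nat.card F - 1 := by
    rw [← hj, Nat.card_eq_fintype_card]
    exact orderOf_dvd_of_pow_eq_one (FiniteField.pow_card_sub_one_eq_one y h0)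
  have h2 : j ≤ e + 1 := by
    by_contra hc
    exact h.nd ((pow_dvd_pow 2 (by omega)).trans h1)
  obtain ⟨i, -, hi⟩ := h.prim.eq_pow_of_pow_eq_one
    (ξ := y) (orderOf_dvd_iff_pow_eq_one.1 (hj ▸ pow_dvd_pow 2 h2))
  exact ⟨i, hi⟩

/-- **irreducibility** -/
theorem le_finrank {V : Type*} [AddCommGroup V] [Module F V] [Finite V] [Finite F] (c : Module.End F V) {b : ℕ}
    {S : Submodule F V} (hS : ∀ v ∈ S, c v ∈ S) (hc : ∀ v ∈ S, (c ^ 2 ^ b) v = w • v) (h0 : S ≠ ⊥) :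
    2 ^ b ≤ finrank F S := by
  have hne : ∀ v ∈ S, v ≠ 0 → c v ≠ 0 := by
    intro v hv h1 h2
    have h3 := hc v hv
    obtain ⟨k, hk⟩ : ∃ k, 2 ^ b = k + 1 := ⟨2 ^ b - 1, by have := Nat.one_le_two_pow (n := b); omega⟩
    rw [hk, pow_succ, Module.End.mul_apply, h2, map_zero] at h3
    exact smul_ne_zero h.ne_zero h1 h3.symm
  let g : {v : V // v ∈ S ∧ v ≠ 0} → {v : V // v ∈ S ∧ v ≠ 0} := fun v => ⟨c v.1, hS _ v.2.1, hne _ v.2.1 v.2.2⟩
  have hg : Function.Injective g := by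
    intro u v huv
    have h1 : c u.1 = c v.1 := congrArg Subtype.val huv
    apply Subtype.ext
    by_contra h2
    exact hne _ (sub_mem u.2.1 v.2.1) (sub_ne_zero.2 h2) (by rw [map_sub, h1, sub_self])
  let f := Equiv.ofBijective g (Finite.injective_iff_bijective.1 hg)
  have hf : ∀ (k : ℕ) v, ((f ^ k) v).1 = (c ^ k) v.1 := by
    intro k
    induction k with
    | zero => intro v; rfl
    | succ k ih => intro v; rw [pow_succ, pow_succ, Equiv.Perm.mul_apply, ih]; rfl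
  have hp : ∀ (k : ℕ), ∀ v ∈ S, (c ^ (2 ^ b * k)) v = w ^ k • v := by
    intro k v hv
    induction k with
    | zero => simp
    | succ k ih => rw [mul_add, mul_one, add_comm, pow_add, Module.End.mul_apply, ih, map_smul, hc v hv, smul_smul, pow_succ]
  have h1 : 2 ^ (b + e + 1) ∣ Nat.card {v : V // v ∈ S ∧ v ≠ 0} := by
    refine dvd_card_of_free f (Equiv.ext fun v => Subtype.ext ?_) fun v hv => ?_
    · rw [hf, add_assoc, pow_add 2 b, hp _ _ v.2.1, h.pow', one_smul]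
      rfl
    · have h2 := congrArg Subtype.val hv
      rw [hf, pow_add 2 b, hp _ _ v.2.1, h.pow] at h2
      have h3 : (2 : F) • v.1 = 0 := by
        rw [two_smul]
        nth_rewrite 1 [← h2]
        rw [neg_smul, one_smul, neg_add_cancel]
      exact smul_ne_zero h.two v.2.2 h3
  have h2 : Nat.card {v : V // v ∈ S ∧ v ≠ 0} = Nat.card F ^ finrank F S - 1 := by
    rw [← Module.natCard_eq_pow_finrank (K := F) (V := S)]
    have h3 : Nat.card {v : V // v ∈ S ∧ v ≠ 0} = ((S : Set V) \ {0}).ncard := rfl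
    rw [h3, Set.ncard_sdiff_singleton_of_mem S.zero_mem]
    rfl
  rw [h2] at h1
  exact Nat.le_of_dvd (Nat.pos_of_ne_zero fun e => h0 (Submodule.finrank_eq_zero.1 e))
    (lte Nat.card_pos h.pos h.dvd h.nd h1)

end Gn

theorem exists_gn [Finite F] (h2 : (2 : F) ≠ 0) {y : F} {k : ℕ} (hy : y ^ 2 ^ k = 1) (hy2 : y ^ 2 ≠ 1) :
    ∃ (e : ℕ) (w : F), Gn e w := by
  have := Fintype.ofFinite F
  classical
  obtain ⟨g, hg⟩ := IsCyclic.exists_generator (α := Fˣ)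
  have ho : orderOf g = Nat.card F - 1 := by
    rw [orderOf_eq_card_of_forall_mem_zpowers hg, Nat.card_units]
  have hpos : Nat.card F - 1 ≠ 0 := ho ▸ (orderOf_pos g).ne'
  obtain ⟨j, m, hm, hj⟩ := Nat.exists_eq_two_pow_mul_odd hpos
  have h0 : y ≠ 0 := by
    rintro rfl
    rw [zero_pow (by positivity)] at hy
    exact zero_ne_one hy
  have h1 : 2 ≤ j := by
    by_contra hc
    apply hy2
    have h3 : orderOf y ∣ 2 ^ j * m := by
      rw [← hj, Nat.card_eq_fintype_card]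
      exact orderOf_dvd_of_pow_eq_one (FiniteField.pow_card_sub_one_eq_one y h0)
    have h4 : (orderOf y).Coprime m :=
      Nat.Coprime.coprime_dvd_left (orderOf_dvd_of_pow_eq_one hy) (Nat.Coprime.pow_left k (Nat.coprime_two_left.2 hm))
    exact orderOf_dvd_iff_pow_eq_one.1 ((h4.dvd_of_dvd_mul_right h3).trans (by
      have : j = 0 ∨ j = 1 := by omega
      rcases this with rfl | rfl <;> norm_num))
  obtain ⟨e, rfl⟩ : ∃ e, j = e + 1 := ⟨j - 1, by omega⟩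
  refine ⟨e, ((g ^ m : Fˣ) : F), by omega, ?_, ?_, h2⟩
  · have h3 : (((g ^ m : Fˣ) : F) ^ 2 ^ e) ^ 2 = 1 := by
      rw [← pow_mul, ← pow_succ, ← Units.val_pow_eq_pow_val, ← pow_mul, mul_comm, ← hj, ← ho, pow_orderOf_eq_one,
        Units.val_one]
    refine (sq_eq_one_iff.1 h3).resolve_left fun h4 => ?_
    rw [← Units.val_pow_eq_pow_val, ← pow_mul, Units.val_eq_one] at h4
    have h5 := orderOf_dvd_of_pow_eq_one h4
    rw [ho, hj, mul_comm m] at h5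
    have h6 := Nat.le_of_dvd (by positivity) (Nat.dvd_of_mul_dvd_mul_right hm.pos h5)
    exact absurd h6 (not_le.2 (Nat.pow_lt_pow_right (by norm_num) (Nat.lt_succ_self e)))
  · rw [hj, pow_succ 2 (e + 1), Nat.mul_dvd_mul_iff_left (by positivity)]
    exact hm.not_two_dvd_nat

end Cfsg.Agent.ODD.FA
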