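import Cfsg.Agent.ODD.FA.Dat

/-!
# ODD, box FA: the input of LEV and `QA` for linear data (helper35)

* `L.mu` : the extension of a character which is constant on the blocks; `L.Db` : the `2`-group of LEV;
* `Gd.inp` : `Lev.In R (L.Jb β) μ lam D`; `Gd.exists_val` : `μ` takes on `D` the values of `lam` at the `2`-elements;
* **`LD.qa`**.
-/

set_option autoImplicit false
set_option linter.unusedSectionVars false
set_option maxHeartbeats 400000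

open Cfsg

namespace Cfsg.Agent.ODD.FA

open Equiv Finset Matrix CoxeterSystem Cfsg.Agent.ChevalleyStructure.CoxeterGeom Cfsg.Agent.Tits.Roots
  Cfsg.Agent.Tits.Core Cfsg.Agent.Nodes.Reps Cfsg.Agent.Nodes.BNOf Cfsg.Agent.Nodes.Bruhat Cfsg.Agent.Nodes.LeviDec
  Cfsg.Agent.H684.OQ Cfsg.Agent.H381.OQ Cfsg.Agent.ODD.PS Cfsg.Agent.ODD.Red Cfsg.Agent.Characters

variable {I W Y : Type} [Fintype I] [DecidableEq I] [Group W] [Finite W] [Group Y] [Finite Y]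
  {M : CoxeterMatrix I} {cs : CoxeterSystem M W} {A : I → I → ℤ} {h : IsCartan M A} {p : ℕ} {T : Subgroup Y}
  {n : I → Y} {X : (I → ℤ) → Subgroup Y}

namespace LD

variable {R : RGD cs h p T n X} {F : Type} [Field F] [Finite F] {k : ℕ} (L : LD R F k)

/-- the block triangular elements -/
def Hb (γ : Fin (k + 1) → ℕ) : Subgroup Y where
  carrier := {g | g ∈ L.P ∧ (L.ρ g).BlockTriangular γ}
  one_mem' := ⟨one_mem _, L.one ▸ blockTriangular_one⟩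
  mul_mem' := fun ⟨h1, h2⟩ ⟨h3, h4⟩ => ⟨mul_mem h1 h3, L.mul _ h1 _ h3 ▸ h2.mul h4⟩
  inv_mem' := fun {g} ⟨h1, h2⟩ => ⟨inv_mem h1, by rw [inv_eq_pow, L.pow h1]; exact h2.pow _⟩

theorem B_le_Hb {γ : Fin (k + 1) → ℕ} (hγ : Monotone γ) : RGD.B cs h T X ≤ L.Hb γ := by
  refine sup_le (fun t ht => ⟨L.T_le ht, (L.T_diag t ht).tri fun _ => rfl⟩) fun u hu => ⟨L.U_le hu, fun a b hab => ?_⟩
  have h1 : b < a := lt_of_not_ge fun h1 => absurd (hγ h1) (not_le.2 hab)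
  rw [L.U_tri u hu a b h1.le, one_apply_ne h1.ne']

variable {β : Fin (k + 1) → ℕ}

theorem PJ_le (hβ : Monotone β) : PJ cs h T X (L.Jb β) ≤ L.Hb β := by
  intro g hg
  obtain ⟨w, h1, h2⟩ := (mem_PJ_iff_cell R).1 hg
  refine (cell_mem_iff R (L.B_le_Hb hβ) h2).2 (Subgroup.closure_mono (Set.image_mono ?_) h1)
  rintro _ ⟨i, hi, rfl⟩
  exact ⟨L.n_mem i, (L.n_mon i).tri fun l => apply_swap_eq_self hi l⟩

/-- the determinant of a block -/
noncomputable def dc (hβ : Monotone β) (b : ℕ) : ↥(PJ cs h T X (L.Jb β)) →* Fˣ :=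
  MonoidHom.toHomUnits
    { toFun := fun g => (cut β b (L.ρ g)).det
      map_one' := by rw [OneMemClass.coe_one, L.one, cut_one, det_one]
      map_mul' := fun g g' => by
        rw [Subgroup.coe_mul, L.mul _ (L.PJ_le hβ g.2).1 _ (L.PJ_le hβ g'.2).1,
          cut_mul b (L.PJ_le hβ g.2).2 (L.PJ_le hβ g'.2).2, det_mul] }

theorem dc_val (hβ : Monotone β) (b : ℕ) (g : ↥(PJ cs h T X (L.Jb β))) :
    (L.dc hβ b g : F) = (cut β b (L.ρ g)).det := rfl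

/-- the linear character of the parabolic subgroup -/
noncomputable def mu (hβ : Monotone β) (φ : ℕ → Fˣ →* ℂˣ) : ↥(PJ cs h T X (L.Jb β)) →* ℂˣ :=
  MonoidHom.mk' (fun g => ∏ b ∈ univ.image β, φ b (L.dc hβ b g)) fun a b => by simp only [map_mul, prod_mul_distrib]

theorem mu_apply (hβ : Monotone β) (φ : ℕ → Fˣ →* ℂˣ) (g : ↥(PJ cs h T X (L.Jb β))) :
    L.mu hβ φ g = ∏ b ∈ univ.image β, φ b (L.dc hβ b g) := rfl

theorem ev_block (φ : ℕ → Fˣ →* ℂˣ) (d : Fin (k + 1) → Fˣ) :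
    ev (fun i => φ (β i)) d = ∏ b ∈ univ.image β, φ b (∏ i ∈ fb β b, d i) := by
  rw [ev_apply, ← prod_fiberwise_of_maps_to (g := β) fun i hi => mem_image_of_mem β hi]
  refine prod_congr rfl fun b _ => ?_
  rw [map_prod]
  exact prod_congr rfl fun i hi => by rw [(mem_filter.1 hi).2]

theorem exists_phi {f : Fin (k + 1) → Fˣ →* ℂˣ} (hf : Bc β f) : ∃ φ : ℕ → Fˣ →* ℂˣ, f = fun i => φ (β i) := by
  classical
  refine ⟨fun b => if hb : ∃ i, β i = b then f hb.choose else 1, funext fun i => ?_⟩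
  have h1 : ∃ j, β j = β i := ⟨i, rfl⟩
  exact (hf _ _ h1.choose_spec).symm.trans (dif_pos (t := fun hb => f hb.choose) h1).symm

/-- the `2`-group -/
def Db (β : Fin (k + 1) → ℕ) (c : ℕ → Matrix (Fin (k + 1)) (Fin (k + 1)) F) : Subgroup Y where
  carrier := {g | (∃ w ∈ WJ cs (L.Jb β), Rp cs R.nsys w g) ∧ L.ρ g ∈ Submonoid.closure (Set.range c)}
  one_mem' := ⟨⟨1, one_mem _, rp_one⟩, L.one ▸ one_mem _⟩
  mul_mem' := fun ⟨⟨_, h1, h2⟩, h3⟩ ⟨⟨_, h4, h5⟩, h6⟩ => ⟨⟨_, mul_mem h1 h4, h2.mul h5⟩,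
    L.mul _ (L.mon_rp (L.Jb_le β h1) h2).1 _ (L.mon_rp (L.Jb_le β h4) h5).1 ▸ mul_mem h3 h6⟩
  inv_mem' := fun {g} ⟨⟨_, h1, h2⟩, h3⟩ => ⟨⟨_, inv_mem h1, h2.inv⟩, by
    rw [inv_eq_pow, L.pow (L.mon_rp (L.Jb_le β h1) h2).1]
    exact pow_mem h3 _⟩

variable {e : ℕ} {w : F} {c : ℕ → Matrix (Fin (k + 1)) (Fin (k + 1)) F} {x : ℕ → F}

theorem Db_le : L.Db β c ≤ PJ cs h T X (L.Jb β) := fun _ ⟨⟨_, h1, h2⟩, _⟩ => LJ_le_PJ (rp_mem_LJ R h1 h2)

theorem Db_le_P {g : Y} (hg : g ∈ L.Db β c) : g ∈ L.P := by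
  obtain ⟨⟨_, h1, h2⟩, -⟩ := hg
  exact (L.mon_rp (L.Jb_le β h1) h2).1

theorem eq_of_Db {g g' : Y} (hg : g ∈ L.Db β c) (hg' : g' ∈ L.Db β c) (e : L.ρ g = L.ρ g') : g = g' := by
  obtain ⟨⟨_, h1, h2⟩, -⟩ := hg
  obtain ⟨⟨_, h3, h4⟩, -⟩ := hg'
  exact L.eq_of_rp (L.Jb_le β h1) (L.Jb_le β h3) h2 h4 e

variable (C : Cy β e w c x)
include C

theorem Db_comm {g g' : Y} (hg : g ∈ L.Db β c) (hg' : g' ∈ L.Db β c) : g * g' = g' * g :=
  L.eq_of_Db (mul_mem hg hg') (mul_mem hg' hg) (by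
    rw [L.mul _ (L.Db_le_P hg) _ (L.Db_le_P hg'), L.mul _ (L.Db_le_P hg') _ (L.Db_le_P hg), (C.comm_cl hg.2 hg'.2).eq])

theorem Db_pow {g : Y} (hg : g ∈ L.Db β c) : ∃ j, g ^ 2 ^ j = 1 := by
  obtain ⟨j, hj⟩ := C.pow_cl hg.2
  exact ⟨j, L.eq_of_Db (pow_mem hg _) (one_mem _) (by rw [L.pow (L.Db_le_P hg), hj, L.one])⟩

theorem exists_Db {G : Matrix (Fin (k + 1)) (Fin (k + 1)) F} (hG : G ∈ Submonoid.closure (Set.range c)) {δ : Fˣ}
    (hδ : δ ∈ L.Δ) (hd : G.det = δ) : ∃ g ∈ L.Db β c, L.ρ g = G := by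
  obtain ⟨σ, h1, h2⟩ := C.mon_cl hG
  obtain ⟨v, h3, g, h4, h5⟩ := L.exists_lift C.blk.mono h1 h2 hδ hd
  exact ⟨g, ⟨⟨v, h3, h4⟩, h5 ▸ hG⟩, h5⟩

theorem exists_pair (hw : Gn e w) (h2 : L.Δ = ⊤ ∨ ∀ i, ∃ l, β l ≠ β i) (i : Fin (k + 1)) :
    ∃ b' r, b' ≠ β i ∧ Odd r ∧ ∃ d ∈ L.Db β c, L.ρ d = c (β i) * c b' ^ r := by
  have h1 : ∀ b' r, c (β i) * c b' ^ r ∈ Submonoid.closure (Set.range c) := fun b' r =>
    mul_mem (Submonoid.subset_closure ⟨_, rfl⟩) (pow_mem (Submonoid.subset_closure (Set.mem_range_self _)) _)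
  rcases h2 with h2 | h2
  · obtain ⟨j, hj⟩ := C.pow_cl (h1 (β i + 1) 1)
    have h3 : (c (β i) * c (β i + 1) ^ 1).det ≠ 0 := fun h3 => by
      have h4 := congrArg det hj
      rw [det_pow, h3, zero_pow (by positivity), det_one] at h4
      exact zero_ne_one h4
    exact ⟨β i + 1, 1, Nat.succ_ne_self _, odd_one,
      L.exists_Db C (h1 _ _) (δ := Units.mk0 _ h3) (h2 ▸ Subgroup.mem_top _) rfl⟩
  · obtain ⟨l, hl⟩ := h2 i
    have h3 : 1 ≤ 2 ^ (e + 1) := Nat.one_le_two_pow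
    refine ⟨β l, 2 ^ (e + 1) - 1, hl, Nat.Even.sub_odd h3 (Nat.even_pow.2 ⟨even_two, Nat.succ_ne_zero e⟩) odd_one,
      L.exists_Db C (h1 _ _) (one_mem _) ?_⟩
    rw [det_mul, det_pow, C.det, C.det, ← pow_succ', Nat.sub_add_cancel h3, hw.pow', Units.val_one]

/-- `μ` takes on `D` the values of `lam` at the `2`-elements -/
theorem exists_val (hw : Gn e w) {φ : ℕ → Fˣ →* ℂˣ} {lam : ↥T →* ℂˣ} (hf : L.Rep (fun i => φ (β i)) lam) (t : ↥T)
    {j : ℕ} (ht : t ^ 2 ^ j = 1) : ∃ (g : Y) (hg : g ∈ L.Db β c), L.mu C.blk.mono φ ⟨g, L.Db_le hg⟩ = lam t := by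
  have h1 : ∀ b, ∃ a : ℕ, w ^ a = (∏ i ∈ fb β b, L.τ t i : Fˣ) := fun b => by
    refine hw.exists_pow (k := j) ?_
    rw [← Units.val_pow_eq_pow_val, ← prod_pow, prod_eq_one fun i _ => ?_, Units.val_one]
    rw [← Pi.pow_apply, ← map_pow, ht, map_one, Pi.one_apply]
  choose a ha using h1
  obtain ⟨G, h2, h3, h4⟩ := C.exists_det a
  obtain ⟨g, h5, h6⟩ := L.exists_Db C h2 (L.τ_mem t) (by
    rw [h4, prod_congr rfl fun b _ => ha b, ← Units.coe_prod]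
    exact congrArg Units.val (prod_fiberwise_of_maps_to (fun i hi => mem_image_of_mem β hi) _))
  refine ⟨g, h5, ?_⟩
  rw [mu_apply, hf, ev_block]
  refine prod_congr rfl fun b hb => congrArg (φ b) (Units.ext ?_)
  obtain ⟨i, -, rfl⟩ := mem_image.1 hb
  rw [dc_val, ← ha, ← h3, ← h6]

variable {L}

/-- **the input of LEV** -/
theorem Gd.inp (hw : Gn e w) {φ : ℕ → Fˣ →* ℂˣ} {lam : ↥T →* ℂˣ} (G : L.Gd β (fun i => φ (β i)) lam)
    (h2 : L.Δ = ⊤ ∨ ∀ i, ∃ l, β l ≠ β i) : Lev.In R (L.Jb β) (L.mu C.blk.mono φ) lam (L.Db β c) where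
  muT t ht ht' := by
    rw [mu_apply, G.rep, ev_block]
    refine prod_congr rfl fun b _ => congrArg (φ b) (Units.ext ?_)
    rw [dc_val, L.ρ_T ⟨t, ht⟩, cut_diagonal, det_diagonal, Units.coe_prod, fb, prod_filter]
  muU u hu hu' := by
    rw [mu_apply]
    refine prod_eq_one fun b _ => ?_
    have h1 : ∀ i j, j ≤ i → cut β b (L.ρ u) i j = (1 : Matrix (Fin (k + 1)) (Fin (k + 1)) F) i j := fun i j hij => by
      by_cases hc : β i = b ∧ β j = b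
      · rw [cut_pos _ hc.1 hc.2, L.U_tri u hu i j hij]
      · exact cut_neg _ hc
    have h3 : L.dc C.blk.mono b ⟨u, hu'⟩ = 1 := Units.ext (by
      rw [dc_val, det_of_isUpperTriangular fun i j hij => (h1 i j hij.le).trans (one_apply_ne hij.ne')]
      exact prod_eq_one fun a _ => (h1 a a le_rfl).trans (one_apply_eq a))
    rw [h3, map_one]
  two g := by
    obtain ⟨j, hj⟩ := L.Db_pow C g.2
    exact ⟨j, Subtype.ext hj⟩
  le := L.Db_le
  cV v hv hc := by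
    have hU : v ∈ UU cs h X := VJ_le_U _ hv
    refine L.cv v hU ?_ e fun j => ?_
    · ext i j
      obtain ⟨b', r, h3, h4, d, h5, h6⟩ := L.exists_pair C hw h2 j
      have h7 : Commute (L.ρ v) (c (β j) * c b' ^ r) := by
        change _ * _ = _ * _
        rw [← h6, ← L.mul _ (L.U_le hU) _ (L.Db_le_P h5), ← L.mul _ (L.Db_le_P h5) _ (L.U_le hU), hc d h5]
      have h8 := congrFun (C.fix h3 h4 (L.U_tri v hU) h7 (single_mem_co (mem_fb.2 rfl))) i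
      rw [mulVec_single_one, col_apply] at h8
      rw [h8, one_apply, Pi.single_apply]
    · obtain ⟨b', r, h3, h4, d, h5, h6⟩ := L.exists_pair C hw h2 j
      have h7 := pow_mem h5 (2 ^ β j)
      obtain ⟨u, h8, h9⟩ := h7.1
      refine ⟨u, L.Jb_le β h8, _, h9, hc _ h7, x (β j), C.gn _, ?_, fun y z hy hne hz => funext fun i => ?_⟩
      · rw [L.pow (L.Db_le_P h5), h6, C.pow_co h3 (single_mem_co (mem_fb.2 rfl))]
      · rw [L.pow (L.Db_le_P h5), h6] at hz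
        by_contra h0
        exact hne (C.eigen h3 h4 hy hz h0).2
  wt ν g hg hν := by
    obtain ⟨u, hg⟩ := hg
    have hb : Bc β fun i => φ (β i) := fun i j hij => by simp only [hij]
    have h1 := G.rep.conj' G.ef hg hν
    by_cases h3 : Bc β fun i => φ (β ((L.pw u).symm i))
    · left
      refine h1.eq ?_
      rw [show (fun i => φ (β ((L.pw u).symm i))) = fun i => φ (β i) from funext (G.blk.eq_of_comp hb _ h3)]
      exact G.rep
    · right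
      obtain ⟨π, γ, h4, h5, ⟨i, j, h6, h7⟩, h8⟩ := exists_sort C.blk.mono h3
      obtain ⟨v, h9, h10⟩ := L.exists_pw C.blk.mono (σ := π.symm) fun l => by rw [← h4, apply_symm_apply]
      obtain ⟨a, ha⟩ := exists_rp cs R.nsys v
      have h11 := h1.conj (L.Jb_le β h9) ha (cj_cjl ha ν)
      have h12 := (G.ef.conj hg hν).conj ha (cj_cjl ha ν)
      refine ⟨_, a, L.Hb γ, ⟨v, ha⟩, LJ_le_PJ (rp_mem_LJ R h9 ha), cj_cjl ha ν, L.B_le_Hb h5, fun y hy => ?_,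
        fun y ⟨z, hz⟩ hy hc => ?_⟩
      · obtain ⟨b', r, h13, -, d, h14, h15⟩ := L.exists_pair C hw h2 i
        obtain ⟨h16, h17⟩ := L.PJ_le C.blk.mono hy
        refine ⟨d, h14, fun h18 => C.not_tri (r := r) h13 h17 (L.PJ_le C.blk.mono (inv_mem hy)).2 (L.mul_inv h16) rfl
          h6.symm h7 ?_⟩
        rw [← h15, ← L.mul _ (inv_mem h16) _ (L.Db_le_P h14), ← L.mul _ (mul_mem (inv_mem h16) (L.Db_le_P h14)) _ h16]
        exact h18.2
      · have h13 : z ∈ WJ cs (L.Jb β) := (cell_mem_PJ_iff R (cell_of_rp hz)).1 hy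
        obtain ⟨κ, -, h14⟩ := h11.twist h12 (w := z) ⟨y, hz, hc⟩
        simp only [h10, symm_symm] at h14
        have h15 := G.blk.twist hb (σ := (L.pw u).symm * π * L.pw z * ((L.pw u).symm * π)⁻¹) (κ := κ) fun l s => by
          have h16 := h14 (((L.pw u).symm * π)⁻¹ l) s
          have h17 : (L.pw u).symm (π (((L.pw u).symm * π)⁻¹ l)) = l := ((L.pw u).symm * π).apply_symm_apply l
          rw [h17] at h16
          exact h16
        obtain ⟨h16, h17, -⟩ := L.mon_rp (L.Jb_le β h13) hz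
        refine ⟨h16, h17.tri (h8 _ (L.pw_Jb h13) fun l => MonoidHom.ext fun s => ?_)⟩
        rw [h14, h15, one_mul]

omit C

theorem fix_of_two {τ : ℂ ≃+* ℂ} (hτ : Two τ) {lam : ↥T →* ℂˣ} (hl : ∀ (t : ↥T) (j : ℕ), t ^ 2 ^ j = 1 → lam t ^ 2 = 1)
    (t : ↥T) : τ (lam t : ℂˣ) = (lam t : ℂˣ) := by
  obtain ⟨j, o, ho, h1⟩ := Nat.exists_eq_two_pow_mul_odd (orderOf_pos t).ne'
  have h2 := congrArg Units.val (hl (t ^ o) j (by rw [← pow_mul, mul_comm, ← h1, pow_orderOf_eq_one]))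
  rw [map_pow, Units.val_pow_eq_pow_val, Units.val_pow_eq_pow_val, Units.val_one, sq_eq_one_iff] at h2
  rcases h2 with h2 | h2
  · exact hτ o _ ho h2
  · have h3 := hτ o (-((lam t : ℂˣ) : ℂ)) ho (by rw [ho.neg_pow, h2, neg_neg])
    rwa [map_neg, neg_inj] at h3

variable (L)
include L

/-- **`QA` for linear data** -/
theorem qa (levq : Lev.LEVQ) (rata : Lev.RATA) (hM : AH.Main) (hp : p.Prime) (hp2 : p ≠ 2) (hG : GG cs h T X = ⊤)
    (hnf : H69.OQ.NoFix cs h T X) (h2 : (2 : F) ≠ 0) : QA Y := by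
  intro θ hθ hodd hr
  obtain ⟨lam0, ⟨m, hm, h1⟩, h3⟩ := exists_lam R hG L.T_comm hnf hθ hodd
  obtain ⟨β, hβ⟩ := exists_blk (k + 1)
  obtain ⟨lam, f, g, hg, hc, G⟩ := L.exists_gd hβ h3
  rw [← mB_congr R hG (Core.isCharacter_isClassFunction (Core.isIrr_isCharacter hθ)) hg hc] at h1
  by_cases hl : ∀ (t : ↥T) (j : ℕ), t ^ 2 ^ j = 1 → lam t ^ 2 = 1
  · exact absurd (fun τ hτ => fix_two R hM hp hp2 hG L.T_comm hτ (fix_of_two hτ hl) G.sq hθ ⟨m, hm, h1⟩) hr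
  push Not at hl
  obtain ⟨t, j, ht, hne⟩ := hl
  obtain ⟨h4, h5⟩ := G.dich.resolve_right fun h4 => hne (h4.2 t)
  obtain ⟨φ, rfl⟩ := exists_phi h4
  obtain ⟨i, hi⟩ : ∃ i, (L.τ t i : F) ^ 2 ≠ 1 := by
    by_contra h6
    push Not at h6
    have h7 : t ^ 2 = 1 := L.τ_inj (by
      rw [map_pow, map_one]
      exact funext fun i => Units.ext (h6 i))
    exact hne (by rw [← map_pow, h7, map_one])
  obtain ⟨e, w, hw⟩ := exists_gn (k := j) h2 (by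
    rw [← Units.val_pow_eq_pow_val, ← Pi.pow_apply, ← map_pow, ht, map_one, Pi.one_apply, Units.val_one]) hi
  obtain ⟨c, x, C⟩ := exists_cy hβ hw
  obtain ⟨d, hd, h6⟩ := L.exists_val C hw G.rep t ht
  obtain ⟨l, hl⟩ := L.Db_pow C hd
  obtain ⟨l', -, hl'⟩ := (Nat.dvd_prime_pow Nat.prime_two).1 (orderOf_dvd_of_pow_eq_one hl)
  have hsub : L.Jb β ⊆ Set.range L.ι := Set.image_subset_range _ _
  refine ⟨d, l', hl', levq R _ _ lam _ hp hp2 hG (G.inp C hw h5) (rata R _ ⟨fun a ha b hb => L.ta.1 a (hsub ha) b (hsub hb),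
    fun a ha b hb c hc d hd => L.ta.2 a (hsub ha) b (hsub hb) c (hsub hc) d (hsub hd)⟩) θ hθ hodd ?_ d (L.Db_le hd) l hl
    (fun d' hd' => L.Db_comm C hd' hd) (h6 ▸ hne)⟩
  rw [h1]
  exact Nat.cast_ne_zero.2 hm.pos.ne'

end LD

end Cfsg.Agent.ODD.FA
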