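import Cfsg.Agent.ODD.FA.Irr
import Cfsg.Agent.ODD.FA.Blk

/-!
# ODD, box FA: monomial matrices and the cyclic elements on the binary blocks (helper35)

* `Mon σ a`, `IsMon σ A` : monomial matrices; `cut β b A` : the diagonal block `b` of `A`, completed by `1`;
* `Cy β e w c x` : `c b` is monomial, lives on the block `b`, `c b ^ 2 ^ b = x b`, `det (c b) = w`; `exists_cy`;
* `Cy.eigen`, `Cy.eq_one` (a unitriangular matrix which commutes with the elements `c b * c b' ^ r` is `1`),
  `Cy.not_tri` (irreducibility on the blocks), `Cy.exists_det`.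
-/

set_option autoImplicit false

namespace Cfsg.Agent.ODD.FA

open Equiv Finset Matrix Module

variable {m : ℕ} {F : Type*} [Field F]

/-! ### monomial matrices -/

/-- the monomial matrix `e_j ↦ a j • e_(σ j)` -/
def Mon (σ : Perm (Fin m)) (a : Fin m → F) : Matrix (Fin m) (Fin m) F := of fun i j => if i = σ j then a j else 0

/-- monomial with the permutation `σ` -/
def IsMon (σ : Perm (Fin m)) (A : Matrix (Fin m) (Fin m) F) : Prop := ∀ i j, A i j ≠ 0 → i = σ j

theorem isMon_mon (σ : Perm (Fin m)) (a : Fin m → F) : IsMon σ (Mon σ a) := fun i j h => by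
  by_contra hc
  exact h (if_neg hc)

theorem IsMon.eq {σ : Perm (Fin m)} {A : Matrix (Fin m) (Fin m) F} (h : IsMon σ A) : A = Mon σ fun j => A (σ j) j := by
  ext i j
  change _ = if _ then _ else _
  split_ifs with hc
  · rw [hc]
  · by_contra h0
    exact hc (h i j h0)

theorem mon_mul (σ τ : Perm (Fin m)) (a b : Fin m → F) :
    Mon σ a * Mon τ b = Mon (σ * τ) fun j => a (τ j) * b j := by
  ext i j
  rw [mul_apply, sum_eq_single (τ j) (fun k _ hk => by simp [Mon, hk]) (by simp)]
  by_cases h : i = σ (τ j) <;> simp [Mon, h]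

theorem mon_one (a : Fin m → F) : Mon 1 a = diagonal a := by
  ext i j
  by_cases h : i = j <;> simp [Mon, h]

theorem IsMon.mul {σ τ : Perm (Fin m)} {A B : Matrix (Fin m) (Fin m) F} (hA : IsMon σ A) (hB : IsMon τ B) :
    IsMon (σ * τ) (A * B) := by
  rw [hA.eq, hB.eq, mon_mul]
  exact isMon_mon _ _

theorem isMon_diagonal (a : Fin m → F) : IsMon 1 (diagonal a) := mon_one a ▸ isMon_mon 1 a

theorem det_mon (σ : Perm (Fin m)) (a : Fin m → F) : (Mon σ a).det = ((Perm.sign σ : ℤ) : F) * ∏ j, a j := by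
  have h : Mon σ a = (diagonal a).submatrix σ.symm id := by
    ext i j
    simp only [Mon, of_apply, submatrix_apply, id, diagonal_apply, symm_apply_eq]
    split_ifs with h
    · rw [h, symm_apply_apply]
    · rfl
  rw [h, det_permute, det_diagonal, Perm.sign_symm]

theorem mon_pow (σ : Perm (Fin m)) (a : Fin m → F) (k : ℕ) :
    Mon σ a ^ k = Mon (σ ^ k) fun j => ∏ l ∈ range k, a ((σ ^ l) j) := by
  induction k with
  | zero => simp [mon_one]
  | succ k ih =>
    rw [pow_succ', ih, mon_mul, pow_succ']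
    congr 1
    ext j
    rw [prod_range_succ, mul_comm]

theorem IsMon.tri {σ : Perm (Fin m)} {A : Matrix (Fin m) (Fin m) F} (h : IsMon σ A) {γ : Fin m → ℕ}
    (hγ : ∀ l, γ (σ l) = γ l) : A.BlockTriangular γ := fun i j hij => by
  by_contra h0
  rw [h i j h0, hγ] at hij
  exact lt_irrefl _ hij

theorem IsMon.ne_zero {σ : Perm (Fin m)} {A : Matrix (Fin m) (Fin m) F} (h : IsMon σ A) (hd : A.det ≠ 0)
    (j : Fin m) : A (σ j) j ≠ 0 := by
  rw [h.eq, det_mon] at hd
  exact prod_ne_zero_iff.1 (right_ne_zero_of_mul hd) j (mem_univ j)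

/-- conjugation of a diagonal matrix -/
theorem IsMon.diag_mul {σ : Perm (Fin m)} {A : Matrix (Fin m) (Fin m) F} (h : IsMon σ A) (d : Fin m → F) :
    diagonal d * A = A * diagonal fun j => d (σ j) := by
  rw [h.eq, ← mon_one, ← mon_one, mon_mul, mon_mul, one_mul, mul_one]
  congr 1
  ext j
  exact mul_comm _ _

/-! ### blocks -/

/-- the diagonal block `b`, completed by the identity -/
def cut (β : Fin m → ℕ) (b : ℕ) (A : Matrix (Fin m) (Fin m) F) : Matrix (Fin m) (Fin m) F :=
  of fun i j => if β i = b ∧ β j = b then A i j else (1 : Matrix (Fin m) (Fin m) F) i j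

variable {β : Fin m → ℕ}

theorem cut_pos {b : ℕ} (A : Matrix (Fin m) (Fin m) F) {i j : Fin m} (hi : β i = b) (hj : β j = b) :
    cut β b A i j = A i j := if_pos ⟨hi, hj⟩

theorem cut_neg {b : ℕ} (A : Matrix (Fin m) (Fin m) F) {i j : Fin m} (h : ¬ (β i = b ∧ β j = b)) :
    cut β b A i j = (1 : Matrix (Fin m) (Fin m) F) i j := if_neg h

theorem cut_one (b : ℕ) : cut β b (1 : Matrix (Fin m) (Fin m) F) = 1 := by
  ext i j
  exact ite_self _

theorem cut_diagonal (b : ℕ) (d : Fin m → F) : cut β b (diagonal d) = diagonal fun i => if β i = b then d i else 1 := by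
  ext i j
  by_cases h : i = j
  · subst h
    simp [cut]
  · simp [cut, h]

theorem cut_mul (b : ℕ) {A B : Matrix (Fin m) (Fin m) F} (hA : A.BlockTriangular β) (hB : B.BlockTriangular β) :
    cut β b (A * B) = cut β b A * cut β b B := by
  ext i j
  by_cases hi : β i = b
  · by_cases hj : β j = b
    · rw [cut_pos _ hi hj, mul_apply, mul_apply]
      refine sum_congr rfl fun k _ => ?_
      by_cases hk : β k = b
      · rw [cut_pos _ hi hk, cut_pos _ hk hj]
      · rw [cut_neg A (fun h => hk h.2), one_apply_ne (fun h : i = k => hk (h ▸ hi)), zero_mul]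
        rcases lt_or_gt_of_ne hk with h | h
        · rw [hA (hi ▸ h), zero_mul]
        · rw [hB (hj ▸ h), mul_zero]
    · rw [cut_neg _ fun h => hj h.2, mul_apply, sum_congr rfl fun k _ => by rw [cut_neg B fun h => hj h.2],
        ← mul_apply, mul_one, cut_neg _ fun h => hj h.2]
  · rw [cut_neg _ fun h => hi h.1, mul_apply, sum_congr rfl fun k _ => by rw [cut_neg A fun h => hi h.1],
      ← mul_apply, one_mul, cut_neg _ fun h => hi h.1]

theorem cut_tri {γ : Fin m → ℕ} (b : ℕ) {A : Matrix (Fin m) (Fin m) F} (hA : A.BlockTriangular γ) :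
    (cut β b A).BlockTriangular γ := fun i j hij => by
  by_cases h : β i = b ∧ β j = b
  · rw [cut_pos _ h.1 h.2, hA hij]
  · rw [cut_neg _ h, blockTriangular_one hij]

/-- `A` lives on the block `b` -/
def Sp (β : Fin m → ℕ) (b : ℕ) (A : Matrix (Fin m) (Fin m) F) : Prop :=
  ∀ i j, ¬ (β i = b ∧ β j = b) → A i j = (1 : Matrix (Fin m) (Fin m) F) i j

theorem sp_cut (b : ℕ) (A : Matrix (Fin m) (Fin m) F) : Sp β b (cut β b A) := fun _ _ h => cut_neg A h

namespace Sp

variable {b b' : ℕ} {A B : Matrix (Fin m) (Fin m) F}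

theorem cut_eq (h : Sp β b A) : cut β b A = A := by
  ext i j
  by_cases hc : β i = b ∧ β j = b
  · exact cut_pos _ hc.1 hc.2
  · rw [cut_neg _ hc, h i j hc]

theorem cut_ne (h : Sp β b A) (hb : b' ≠ b) : cut β b' A = 1 := by
  ext i j
  by_cases hc : β i = b' ∧ β j = b'
  · rw [cut_pos _ hc.1 hc.2, h i j fun h' => hb (hc.1.symm.trans h'.1)]
  · exact cut_neg _ hc

theorem tri (h : Sp β b A) : A.BlockTriangular β := fun i j hij => by
  rw [h i j fun h' => by omega, blockTriangular_one hij]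

theorem mul (hA : Sp β b A) (hB : Sp β b B) : Sp β b (A * B) := by
  rw [← hA.cut_eq, ← hB.cut_eq, ← cut_mul b hA.tri hB.tri]
  exact sp_cut _ _

theorem pow (hA : Sp β b A) (k : ℕ) : Sp β b (A ^ k) := by
  induction k with
  | zero => exact fun _ _ _ => by rw [pow_zero]
  | succ k ih => exact pow_succ A k ▸ ih.mul hA

theorem sub_mul (hA : Sp β b A) (hB : Sp β b' B) (hb : b ≠ b') : (A - 1) * (B - 1) = 0 := by
  ext i j
  rw [mul_apply, Matrix.zero_apply]
  refine sum_eq_zero fun k _ => ?_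
  by_cases hk : β k = b
  · rw [Matrix.sub_apply B, hB k j fun h => hb (hk.symm.trans h.1), sub_self, mul_zero]
  · rw [Matrix.sub_apply A, hA i k fun h => hk h.2, sub_self, zero_mul]

theorem comm (hA : Sp β b A) (hB : Sp β b' B) (hb : b ≠ b') : Commute A B := by
  have h1 := hA.sub_mul hB hb
  have h2 := hB.sub_mul hA hb.symm
  change A * B = B * A
  rw [← sub_eq_zero, show A * B - B * A = (A - 1) * (B - 1) - (B - 1) * (A - 1) by noncomm_ring, h1, h2, sub_self]

theorem mulVec_apply (hA : Sp β b A) (v : Fin m → F) {i : Fin m} (hi : β i ≠ b) : (A *ᵥ v) i = v i := by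
  conv_rhs => rw [← one_mulVec v]
  simp only [mulVec, dotProduct]
  exact sum_congr rfl fun k _ => by rw [hA i k fun h => hi h.1]

theorem mulVec_of (hA : Sp β b A) {v : Fin m → F} (hv : ∀ i, β i = b → v i = 0) : A *ᵥ v = v := by
  ext i
  conv_rhs => rw [← one_mulVec v]
  simp only [mulVec, dotProduct]
  refine sum_congr rfl fun k _ => ?_
  by_cases hk : β k = b
  · rw [hv k hk, mul_zero, mul_zero]
  · rw [hA i k fun h => hk h.2]

end Sp

/-- the vectors with support in `s` -/
def Co (F : Type*) [Field F] (s : Finset (Fin m)) : Submodule F (Fin m → F) where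
  carrier := {v | ∀ i, i ∉ s → v i = 0}
  add_mem' hu hv i hi := by rw [Pi.add_apply, hu i hi, hv i hi, add_zero]
  zero_mem' _ _ := rfl
  smul_mem' c v hv i hi := by rw [Pi.smul_apply, hv i hi, smul_zero]

theorem finrank_co (s : Finset (Fin m)) : finrank F (Co F s) ≤ s.card := by
  let f : Co F s →ₗ[F] (s → F) := (LinearMap.funLeft F F Subtype.val).comp (Co F s).subtype
  have hf : Function.Injective f := by
    rw [injective_iff_map_eq_zero]
    intro v hv
    ext i
    by_cases hi : i ∈ s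
    · exact congrFun hv ⟨i, hi⟩
    · exact v.2 i hi
  simpa using LinearMap.finrank_le_finrank_of_injective hf

theorem single_mem_co {s : Finset (Fin m)} {i : Fin m} (hi : i ∈ s) : (Pi.single i 1 : Fin m → F) ∈ Co F s :=
  fun j hj => Pi.single_eq_of_ne (fun h : j = i => hj (h ▸ hi)) _

theorem mulVec_mem_co {s : Finset (Fin m)} {A : Matrix (Fin m) (Fin m) F} (h : ∀ i j, j ∈ s → i ∉ s → A i j = 0)
    {v : Fin m → F} (hv : v ∈ Co F s) : A *ᵥ v ∈ Co F s := fun i hi => by
  simp only [mulVec, dotProduct]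
  refine sum_eq_zero fun k _ => ?_
  by_cases hk : k ∈ s
  · rw [h i k hk hi, zero_mul]
  · rw [hv k hk, mul_zero]

/-- the block `b` -/
def fb (β : Fin m → ℕ) (b : ℕ) : Finset (Fin m) := univ.filter fun j => β j = b

theorem mem_fb {b : ℕ} {i : Fin m} : i ∈ fb β b ↔ β i = b := by simp [fb]

theorem Sp.mem_co {b b' : ℕ} {A : Matrix (Fin m) (Fin m) F} (hA : Sp β b' A) {v : Fin m → F}
    (hv : v ∈ Co F (fb β b)) : A *ᵥ v ∈ Co F (fb β b) := by
  refine mulVec_mem_co (fun i j hj hi => ?_) hv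
  rw [mem_fb] at hi hj
  rw [hA i j fun h => hi (h.1.trans (h.2.symm.trans hj)), one_apply_ne fun h : i = j => hi (h ▸ hj)]

/-! ### the cyclic elements -/

/-- the cyclic elements of the blocks -/
structure Cy (β : Fin m → ℕ) (e : ℕ) (w : F) (c : ℕ → Matrix (Fin m) (Fin m) F) (x : ℕ → F) : Prop where
  blk : Blk β
  mon : ∀ b, ∃ σ : Perm (Fin m), (∀ i, β (σ i) = β i) ∧ IsMon σ (c b)
  sp : ∀ b, Sp β b (c b)
  pow : ∀ b, c b ^ 2 ^ b = diagonal fun i => if β i = b then x b else 1
  gn : ∀ b, Gn e (x b)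
  det : ∀ i, (c (β i)).det = w

theorem exists_cy (hβ : Blk β) {e : ℕ} {w : F} (hw : Gn e w) :
    ∃ (c : ℕ → Matrix (Fin m) (Fin m) F) (x : ℕ → F), Cy β e w c x := by
  have h : ∀ b : ℕ, ∃ (c : Matrix (Fin m) (Fin m) F) (x : F), (∃ σ : Perm (Fin m), (∀ i, β (σ i) = β i) ∧ IsMon σ c) ∧
      Sp β b c ∧ (c ^ 2 ^ b = diagonal fun i => if β i = b then x else 1) ∧ Gn e x ∧ ∀ i, β i = b → c.det = w := by
    intro b
    by_cases hb : ∃ i, β i = b
    · obtain ⟨i0, rfl⟩ := hb
      obtain ⟨σ, h1, h2⟩ := (fb β (β i0)).exists_cycleOn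
      have h3 : ∀ i, β i ≠ β i0 → σ i = i := fun i hi => Perm.notMem_support.1 fun h => hi (mem_fb.1 (h2 h))
      have h4 : ∀ i, β (σ i) = β i := by
        intro i
        by_cases hi : β i = β i0
        · exact (mem_fb.1 (h1.apply_mem_iff.2 (mem_fb.2 hi))).trans hi.symm
        · rw [h3 i hi]
      have hc : (fb β (β i0)).card = 2 ^ β i0 := hβ.card i0
      let x : F := ((Perm.sign σ : ℤ) : F) * w
      let a : Fin m → F := fun j => if j = i0 then x else 1
      have ha : ∀ s : Finset (Fin m), i0 ∈ s → ∏ j ∈ s, a j = x := fun s hs => by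
        simp only [a, prod_ite_eq', if_pos hs]
      refine ⟨Mon σ a, x, ⟨σ, h4, isMon_mon _ _⟩, fun i j hij => ?_, ?_, ?_, fun _ _ => ?_⟩
      · by_cases hj : β j = β i0
        · have hi : β i ≠ β i0 := fun h => hij ⟨h, hj⟩
          rw [one_apply_ne fun h : i = j => hi (h ▸ hj)]
          exact if_neg fun h => hi (by rw [h, h4, hj])
        · simp only [Mon, of_apply, h3 j hj, a, if_neg fun h : j = i0 => hj (h ▸ rfl), one_apply]
      · have h5 : σ ^ 2 ^ β i0 = 1 := by
          ext i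
          by_cases hi : β i = β i0
          · rw [← hc, h1.pow_card_apply (mem_fb.2 hi)]
            rfl
          · rw [Perm.pow_apply_eq_self_of_apply_eq_self (h3 i hi)]
            rfl
        rw [mon_pow, h5, mon_one]
        congr 1
        ext j
        split_ifs with hj
        · rw [← ha _ (mem_fb.2 rfl), ← hc]
          refine prod_nbij (fun l => (σ ^ l) j) (fun l _ => h1.1.mapsTo.perm_pow l (mem_fb.2 hj)) ?_ ?_ fun _ _ => rfl
          · intro l hl l' hl' h
            exact Nat.ModEq.eq_of_lt_of_lt ((h1.pow_apply_eq_pow_apply (mem_fb.2 hj)).1 h) (by simpa using hl)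
              (by simpa using hl')
          · intro i hi
            obtain ⟨l, hl, hl'⟩ := h1.exists_pow_eq (mem_fb.2 hj) hi
            exact ⟨l, by simpa using hl, hl'⟩
        · refine prod_eq_one fun l _ => ?_
          rw [Perm.pow_apply_eq_self_of_apply_eq_self (h3 j hj)]
          exact if_neg fun h : j = i0 => hj (h ▸ rfl)
      · rcases Int.units_eq_one_or (Perm.sign σ) with h | h
        · simpa [x, h] using hw
        · simpa [x, h] using hw.neg
      · rw [det_mon, ha _ (mem_univ _)]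
        rcases Int.units_eq_one_or (Perm.sign σ) with h | h <;> simp [x, h]
    · push Not at hb
      exact ⟨1, w, ⟨1, fun _ => rfl, diagonal_one (n := Fin m) (α := F) ▸ isMon_diagonal _⟩, fun _ _ _ => rfl,
        by simp [hb], hw, fun i hi => absurd hi (hb i)⟩
  choose c x h1 h2 h3 h4 h5 using h
  exact ⟨c, x, hβ, h1, h2, h3, h4, fun i => h5 _ i rfl⟩

namespace Cy

variable {e : ℕ} {w : F} {c : ℕ → Matrix (Fin m) (Fin m) F} {x : ℕ → F} (h : Cy β e w c x)
include h

theorem comm (b b' : ℕ) : Commute (c b) (c b') := by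
  by_cases hb : b = b'
  · rw [hb]
  · exact (h.sp b).comm (h.sp b') hb

theorem pow' (b j : ℕ) : c b ^ 2 ^ (b + j) = diagonal fun i => if β i = b then x b ^ 2 ^ j else 1 := by
  rw [pow_add, pow_mul, h.pow, diagonal_pow]
  congr 1
  ext i
  simp

theorem comm_cl {A B : Matrix (Fin m) (Fin m) F} (hA : A ∈ Submonoid.closure (Set.range c))
    (hB : B ∈ Submonoid.closure (Set.range c)) : Commute A B := by
  induction hA, hB using Submonoid.closure_induction₂ with
  | mem _ _ ha hb =>
    obtain ⟨b, rfl⟩ := ha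
    obtain ⟨b', rfl⟩ := hb
    exact h.comm b b'
  | one_left => exact Commute.one_left _
  | one_right => exact Commute.one_right _
  | mul_left _ _ _ _ _ _ h1 h2 => exact h1.mul_left h2
  | mul_right _ _ _ _ _ _ h1 h2 => exact h1.mul_right h2

theorem pow_cl {A : Matrix (Fin m) (Fin m) F} (hA : A ∈ Submonoid.closure (Set.range c)) : ∃ k, A ^ 2 ^ k = 1 := by
  induction hA using Submonoid.closure_induction with
  | mem _ ha =>
    obtain ⟨b, rfl⟩ := ha
    exact ⟨b + (e + 1), by simp [h.pow', (h.gn b).pow']⟩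
  | one => exact ⟨0, one_pow _⟩
  | mul A B hA hB h1 h2 =>
    obtain ⟨k, hk⟩ := h1
    obtain ⟨l, hl⟩ := h2
    refine ⟨k + l, ?_⟩
    rw [(h.comm_cl hA hB).mul_pow, pow_add, pow_mul, hk, one_pow, mul_comm (2 ^ k), pow_mul, hl, one_pow, one_mul]

theorem mon_cl {A : Matrix (Fin m) (Fin m) F} (hA : A ∈ Submonoid.closure (Set.range c)) :
    ∃ σ : Perm (Fin m), (∀ i, β (σ i) = β i) ∧ IsMon σ A := by
  induction hA using Submonoid.closure_induction with
  | mem _ ha =>
    obtain ⟨b, rfl⟩ := ha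
    exact h.mon b
  | one => exact ⟨1, fun _ => rfl, diagonal_one (n := Fin m) (α := F) ▸ isMon_diagonal _⟩
  | mul A B _ _ h1 h2 =>
    obtain ⟨σ, h3, h4⟩ := h1
    obtain ⟨τ, h5, h6⟩ := h2
    exact ⟨σ * τ, fun i => (h3 _).trans (h5 i), h4.mul h6⟩

theorem tri_cl {A : Matrix (Fin m) (Fin m) F} (hA : A ∈ Submonoid.closure (Set.range c)) : A.BlockTriangular β := by
  obtain ⟨σ, h1, h2⟩ := h.mon_cl hA
  exact h2.tri h1

/-- an element with given determinants of the blocks -/
theorem exists_det (a : ℕ → ℕ) : ∃ A ∈ Submonoid.closure (Set.range c),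
    (∀ i, (cut β (β i) A).det = w ^ a (β i)) ∧ A.det = ∏ b ∈ univ.image β, w ^ a b := by
  have key : ∀ s : Finset ℕ, s ⊆ univ.image β → ∃ A ∈ Submonoid.closure (Set.range c),
      (∀ b, (cut β b A).det = if b ∈ s then w ^ a b else 1) ∧ A.det = ∏ b ∈ s, w ^ a b := by
    intro s
    induction s using Finset.induction_on with
    | empty => exact fun _ => ⟨1, one_mem _, fun b => by simp [cut_one], by simp⟩
    | insert b s hb ih =>
      intro hs
      obtain ⟨A, h1, h2, h3⟩ := ih ((subset_insert b s).trans hs)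
      obtain ⟨i, -, rfl⟩ := mem_image.1 (hs (mem_insert_self _ s))
      have h4 := (h.sp (β i)).pow (a (β i))
      refine ⟨c (β i) ^ a (β i) * A, mul_mem (pow_mem (Submonoid.subset_closure (Set.mem_range_self _)) _) h1, fun b => ?_, ?_⟩
      · rw [cut_mul b h4.tri (h.tri_cl h1), det_mul, h2]
        by_cases hb' : b = β i
        · rw [hb', h4.cut_eq, det_pow, h.det, if_neg hb, if_pos (mem_insert_self _ s), mul_one]
        · simp [h4.cut_ne hb', hb']
      · rw [det_mul, det_pow, h.det, h3, prod_insert hb]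
  obtain ⟨A, h1, h2, h3⟩ := key _ subset_rfl
  exact ⟨A, h1, fun i => by rw [h2, if_pos (mem_image_of_mem β (mem_univ i))], h3⟩

variable {b b' r : ℕ} (hb : b' ≠ b) (hr : Odd r)
include hb

theorem pow_co {v : Fin m → F} (hv : v ∈ Co F (fb β b)) : ((c b * c b' ^ r) ^ 2 ^ b) *ᵥ v = x b • v := by
  rw [((h.comm b b').pow_right r).mul_pow, ← mulVec_mulVec,
    (((h.sp b').pow r).pow _).mulVec_of fun i hi => hv i fun h' => hb (hi.symm.trans (mem_fb.1 h')), h.pow]
  ext i
  rw [mulVec_diagonal, Pi.smul_apply, smul_eq_mul]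
  split_ifs with hi
  · rfl
  · rw [hv i fun h' => hi (mem_fb.1 h'), mul_zero, mul_zero]

include hr

/-- the eigenvectors -/
theorem eigen {y : F} (hy : Gn e y) {v : Fin m → F} (hv : ((c b * c b' ^ r) ^ 2 ^ b) *ᵥ v = y • v) {i : Fin m}
    (hi : v i ≠ 0) : β i = b ∧ y = x b := by
  by_cases h1 : β i = b'
  · exfalso
    have h2 : ∀ k : ℕ, (((c b * c b' ^ r) ^ 2 ^ b) ^ k) *ᵥ v = y ^ k • v := by
      intro k
      induction k with
      | zero => simp
      | succ k ih => rw [pow_succ, ← mulVec_mulVec, hv, mulVec_smul, ih, smul_smul, pow_succ']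
    have h3 : ∀ j j', b + j = b' + j' → (x b' ^ r) ^ 2 ^ j' = y ^ 2 ^ j := by
      intro j j' hj
      have h4 := congrFun (h2 (2 ^ j)) i
      rw [← pow_mul, ← pow_add, ((h.comm b b').pow_right r).mul_pow, ← pow_mul _ r, mul_comm r, pow_mul _ _ r, h.pow',
        hj, h.pow', diagonal_pow, diagonal_mul_diagonal, mulVec_diagonal, Pi.pow_apply, if_pos h1,
        if_neg (fun h' => hb (h1.symm.trans h')), one_mul, Pi.smul_apply, smul_eq_mul, ← pow_mul, mul_comm _ r,
        pow_mul] at h4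
      exact mul_right_cancel₀ hi h4
    have h5 := (h.gn b').pow_odd hr
    rcases lt_or_gt_of_ne hb with h6 | h6
    · exact hy.ne_sq h5.pow' (show b - b' ≠ 0 by omega) (by simpa using (h3 0 (b - b') (by omega)).symm)
    · exact h5.ne_sq hy.pow' (show b' - b ≠ 0 by omega) (by simpa using h3 (b' - b) 0 (by omega))
  · have h2 := congrFun hv i
    rw [((h.comm b b').pow_right r).mul_pow, ← mulVec_mulVec, h.pow, mulVec_diagonal,
      (((h.sp b').pow r).pow _).mulVec_apply v h1, Pi.smul_apply, smul_eq_mul] at h2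
    have h3 := mul_right_cancel₀ hi h2
    split_ifs at h3 with h4
    · exact ⟨h4, h3.symm⟩
    · exact absurd h3.symm hy.ne_one

/-- a unitriangular matrix which commutes with `c b * c b' ^ r` is trivial on the block `b` -/
theorem fix [Finite F] {u : Matrix (Fin m) (Fin m) F} (hu : ∀ i j, j ≤ i → u i j = (1 : Matrix (Fin m) (Fin m) F) i j)
    (hc : Commute u (c b * c b' ^ r)) {v : Fin m → F} (hv : v ∈ Co F (fb β b)) : u *ᵥ v = v := by
  rcases (fb β b).eq_empty_or_nonempty with h0 | h0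
  · have : v = 0 := funext fun i => hv i (by simp [h0])
    rw [this, mulVec_zero]
  have h1 : ∀ v ∈ Co F (fb β b), u *ᵥ v ∈ Co F (fb β b) := by
    intro v hv i hi
    by_contra h2
    refine hi (mem_fb.2 (h.eigen hb hr (h.gn b) ?_ h2).1)
    rw [mulVec_mulVec, ← (hc.pow_right _).eq, ← mulVec_mulVec, h.pow_co hb hv, mulVec_smul]
  let S : Submodule F (Fin m → F) := Co F (fb β b) ⊓ LinearMap.eqLocus (toLin' u) LinearMap.id
  have hS : ∀ v, v ∈ S ↔ v ∈ Co F (fb β b) ∧ u *ᵥ v = v := fun v => Iff.rfl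
  have h2 : (Pi.single ((fb β b).min' h0) 1 : Fin m → F) ∈ S := by
    refine (hS _).2 ⟨single_mem_co (min'_mem _ _), funext fun i => ?_⟩
    by_cases hi : i ∈ fb β b
    · rw [mulVec_single_one, col_apply, hu _ _ (min'_le _ _ hi), one_apply, Pi.single_apply]
    · rw [h1 _ (single_mem_co (min'_mem _ _)) i hi, single_mem_co (min'_mem _ _) i hi]
  have h3 : 2 ^ b ≤ finrank F S := by
    refine (h.gn b).le_finrank (toLin' (c b * c b' ^ r)) (fun v hv => (hS _).2 ⟨?_, ?_⟩) (fun v hv => ?_) fun h4 => ?_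
    · rw [toLin'_apply, ← mulVec_mulVec]
      exact (h.sp b).mem_co (((h.sp b').pow r).mem_co hv.1)
    · rw [toLin'_apply, mulVec_mulVec, hc.eq, ← mulVec_mulVec, ((hS v).1 hv).2]
    · rw [← toLin'_pow, toLin'_apply, h.pow_co hb hv.1]
    · rw [h4, Submodule.mem_bot] at h2
      simpa using congrFun h2 ((fb β b).min' h0)
  obtain ⟨i, hi⟩ := h0
  have h4 : (fb β b).card = 2 ^ b := mem_fb.1 hi ▸ h.blk.card i
  have h5 : S = Co F (fb β b) :=
    Submodule.eq_of_le_of_finrank_le inf_le_left ((finrank_co _).trans (h4.le.trans h3))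
  exact ((hS v).1 (h5 ▸ hv)).2

omit hr in
/-- irreducibility on the block `b` -/
theorem not_tri [Finite F] {A A' : Matrix (Fin m) (Fin m) F} (hA : A.BlockTriangular β) (hA' : A'.BlockTriangular β)
    (h1 : A * A' = 1) {γ : Fin m → ℕ} {i j : Fin m} (hi : β i = b) (hj : β j = b) (hij : γ i < γ j) :
    ¬ (A' * (c b * c b' ^ r) * A).BlockTriangular γ := by
  intro hZ
  have h2 := (h.sp b').pow r
  have h3 : cut β b (A' * (c b * c b' ^ r) * A) = cut β b A' * c b * cut β b A := by
    rw [cut_mul b (hA'.mul ((h.sp b).tri.mul h2.tri)) hA, cut_mul b hA' ((h.sp b).tri.mul h2.tri),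
      cut_mul b (h.sp b).tri h2.tri, (h.sp b).cut_eq, h2.cut_ne hb.symm, mul_one]
  have h4 : cut β b A * cut β b A' = 1 := by rw [← cut_mul b hA hA', h1, cut_one]
  have h5 : ∀ k : ℕ, (cut β b A' * c b * cut β b A) ^ k = cut β b A' * c b ^ k * cut β b A := by
    intro k
    induction k with
    | zero => rw [pow_zero, pow_zero, mul_one, mul_eq_one_comm.1 h4]
    | succ k ih =>
      rw [pow_succ, ih, pow_succ]
      simp only [mul_assoc]
      rw [← mul_assoc (cut β b A), h4, one_mul]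
  have hs : (fb β b).filter (fun l => γ l ≤ γ i) ⊂ fb β b :=
    ⟨filter_subset _ _, fun h6 => absurd (mem_filter.1 (h6 (mem_fb.2 hj))).2 (not_le.2 hij)⟩
  have h6 : 2 ^ b ≤ finrank F (Co F ((fb β b).filter fun l => γ l ≤ γ i)) := by
    refine (h.gn b).le_finrank (toLin' (cut β b A' * c b * cut β b A)) (fun v hv => ?_) (fun v hv => ?_) fun h7 => ?_
    · rw [toLin'_apply, ← h3]
      refine mulVec_mem_co (fun k l hl hk => ?_) hv
      rw [mem_filter, mem_fb] at hk hl
      by_cases h7 : β k = b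
      · exact cut_tri b hZ (lt_of_le_of_lt hl.2 (not_le.1 fun h8 => hk ⟨h7, h8⟩))
      · rw [cut_neg _ fun h8 => h7 h8.1, one_apply_ne fun h8 : k = l => h7 (h8 ▸ hl.1)]
    · have h7 : cut β b A *ᵥ v ∈ Co F (fb β b) := (sp_cut b A).mem_co fun l hl => hv l fun h8 => hl (hs.1 h8)
      have h8 := h.pow_co (r := 0) hb h7
      rw [pow_zero, mul_one] at h8
      rw [← toLin'_pow, toLin'_apply, h5, ← mulVec_mulVec, ← mulVec_mulVec, h8, mulVec_smul, mulVec_mulVec,
        mul_eq_one_comm.1 h4, one_mulVec]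
    · have h8 := single_mem_co (F := F) (s := (fb β b).filter fun l => γ l ≤ γ i) (mem_filter.2 ⟨mem_fb.2 hi, le_rfl⟩)
      rw [h7, Submodule.mem_bot] at h8
      simpa using congrFun h8 i
  have h7 : (fb β b).card = 2 ^ b := hi ▸ h.blk.card i
  exact absurd (h6.trans (finrank_co _)) (not_le.2 (h7 ▸ card_lt_card hs))

end Cy

end Cfsg.Agent.ODD.FA
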