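import Cfsg.Agent.ODD.FA.SL
import Cfsg.Agent.ODD.Hk.RigB
import Cfsg.Agent.H428.OQ.SU
import Cfsg.Agent.H694.EB.StarBD
import Cfsg.Agent.Mrg.Omega.EH3.Kf.Base

/-!
# ODD, box FA: unitary Witt frames (helper35)

* `mx Fr g` : the matrix of `g` on the span of the `e_i`, `St Fr` : the stabiliser of this span;
* `pwB cs` : the permutation of an element of the Weyl group of type `B`;
* `UF M L q Δ p0` : a group with a faithful representation `L` modelled on a unitary Witt frame; `UF.ld` its linear datum.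
-/

set_option autoImplicit false
set_option linter.unusedSectionVars false
set_option maxHeartbeats 400000

open Cfsg

namespace Cfsg.Agent.ODD.FA

open Equiv Finset Matrix CoxeterSystem Cfsg.Agent.ChevalleyStructure.CoxeterGeom Cfsg.Agent.Tits.Roots
  Cfsg.Agent.Tits.Core Cfsg.Agent.Nodes.Reps Cfsg.Agent.Nodes.BNOf Cfsg.Agent.Nodes.Bruhat Cfsg.Agent.Nodes.LeviDec
  Cfsg.Agent.H684.OQ Cfsg.Agent.H381.OQ Cfsg.Agent.ODD.PS Cfsg.Agent.Nodes
open Cfsg.Agent.TitsThree.Siegel Cfsg.Agent.TitsThree.WittFrame Cfsg.Agent.TitsThree.WittWeyl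
  Cfsg.Agent.TitsThree.FrameCN Cfsg.Agent.LieClassical.HermBasic
open Cfsg.Agent.Nodes.WittRoot (Amb Mono rg rg_eq PG_self PG_ne)
open Cfsg.Agent.Nodes.WittRGD (Tor eq_or_ng nn mono_nn rg_sr not_prop)
open Cfsg.Agent.Nodes.TypeC (ng sg nx isCartan)
open Cfsg.Agent.H694.EB (homB homB_simple homB_ng homB_injective)
open Cfsg.Agent.H69.OQ (hX dZ dZ_a dZ_ne hX_a hX_nb hX_ne mono_hX hX_mem)

section frame

variable {F : Type} [Field F] {V : Type} [AddCommGroup V] [Module F V] {H : HForm F V} {m : ℕ} (Fr : Frame H (Fin m))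

/-- the coordinate of `e_a` -/
def cf (a : Fin m) : V →ₗ[F] F :=
  ⟨⟨fun v => H.h v (Fr.b (a, false)), fun v w => H.add_left v w _⟩, fun c v => H.smul_left c v _⟩

theorem cf_b (a b : Fin m) : cf Fr a (Fr.b (b, true)) = (1 : Matrix (Fin m) (Fin m) F) a b := by
  change H.h _ _ = _
  rw [Fr.hb, one_apply]
  simp [eq_comm]

theorem cf_sum (v : Fin m → F) (a : Fin m) : cf Fr a (∑ c, v c • Fr.b (c, true)) = v a := by
  simp [cf_b, one_apply]

/-- the matrix on the span of the `e_a` -/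
def mx (g : V ≃ₗ[F] V) : Matrix (Fin m) (Fin m) F := of fun a b => cf Fr a (g (Fr.b (b, true)))

theorem cf_map (g : V ≃ₗ[F] V) (v : Fin m → F) (a : Fin m) :
    cf Fr a (g (∑ c, v c • Fr.b (c, true))) = (mx Fr g *ᵥ v) a := by
  simp [mx, mulVec, dotProduct, mul_comm]

/-- the stabiliser of the span of the `e_a` -/
def St : Submonoid (V ≃ₗ[F] V) where
  carrier := {g | ∀ b, ∃ v : Fin m → F, g (Fr.b (b, true)) = ∑ c, v c • Fr.b (c, true)}
  one_mem' b := ⟨Pi.single b 1, by simp [Pi.single_apply]⟩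
  mul_mem' {g k} hg hk b := by
    choose v hv using hg
    obtain ⟨w, hw⟩ := hk b
    refine ⟨fun c => ∑ a, w a * v a c, ?_⟩
    rw [LinearEquiv.mul_apply, hw, map_sum]
    simp only [map_smul, hv, smul_sum, sum_smul, smul_smul]
    exact sum_comm

variable {Fr} {g k : V ≃ₗ[F] V}

theorem st_eq (hg : g ∈ St Fr) (b : Fin m) : g (Fr.b (b, true)) = ∑ c, mx Fr g c b • Fr.b (c, true) := by
  obtain ⟨v, hv⟩ := hg b
  simp only [mx, of_apply, hv, cf_sum]

theorem mx_mul (hk : k ∈ St Fr) : mx Fr (g * k) = mx Fr g * mx Fr k := by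
  ext a b
  change cf Fr a (g (k _)) = _
  rw [st_eq hk, cf_map]
  rfl

theorem mx_smul {b c : Fin m} {l : F} (e : g (Fr.b (b, true)) = l • Fr.b (c, true)) (a : Fin m) :
    mx Fr g a b = if a = c then l else 0 := by
  simp [mx, e, cf_b, one_apply]

theorem mx_fix {b : Fin m} (e : g (Fr.b (b, true)) = Fr.b (b, true)) (a : Fin m) :
    mx Fr g a b = (1 : Matrix (Fin m) (Fin m) F) a b := by
  rw [mx, of_apply, e, cf_b]

theorem mx_diag {d : Fin m → F} (e : ∀ b, g (Fr.b (b, true)) = d b • Fr.b (b, true)) : mx Fr g = diagonal d := by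
  ext a b
  rw [mx_smul (e b), diagonal_apply]
  split_ifs with h
  · rw [h]
  · rfl

theorem st_mono {π : Fin m × Bool → Fin m × Bool} (hg : Mono Fr g π) {σ : Perm (Fin m)}
    (hπ : ∀ b, π (b, true) = (σ b, true)) : g ∈ St Fr ∧ IsMon σ (mx Fr g) := by
  refine ⟨fun b => ?_, fun a b h => ?_⟩ <;> obtain ⟨l, -, e⟩ := hg (b, true) <;> rw [hπ] at e
  · exact ⟨Pi.single (σ b) l, by simp [e, Pi.single_apply]⟩
  · rw [mx_smul e] at h
    by_contra hc
    exact h (if_neg hc)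

theorem tor_e (hg : Mono Fr g id) (b : Fin m) : g (Fr.b (b, true)) = mx Fr g b b • Fr.b (b, true) := by
  obtain ⟨l, -, e⟩ := hg (b, true)
  rw [mx_smul e, if_pos rfl]
  exact e

/-- the eigenvalue on the opposite vector -/
theorem opp (hi : H.IsIso g) (hg : Mono Fr g id) {z : Fin m × Bool} {l : F} (e : g (Fr.b z) = l • Fr.b z) :
    l ≠ 0 ∧ g (Fr.b (ng z)) = (H.σ l)⁻¹ • Fr.b (ng z) := by
  obtain ⟨l', -, e'⟩ := hg (ng z)
  have h1 := hi (Fr.b (ng z)) (Fr.b z)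
  rw [e, e', H.smul_left, H.smul_right, id, ← mul_assoc] at h1
  have h2 : l' * H.σ l = 1 := mul_right_cancel₀ ((Fr.hb_neg_self z).trans_ne (Fr.η_ne z)) (h1.trans (one_mul _).symm)
  refine ⟨fun h => ?_, by rw [e', eq_inv_of_mul_eq_one_left h2]; rfl⟩
  rw [h, map_zero, mul_zero] at h2
  exact zero_ne_one h2

variable {W : Type} [Group W] (cs : CoxeterSystem (CoxeterMatrix.B m) W)

theorem uni_rg {x : Fin m → ℤ} (hx : IsRoot cs (isCartan m) x) (h0 : 0 ≤ x) (hg : g ∈ rg Fr x) :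
    g ∈ St Fr ∧ Uni (mx Fr g) := by
  obtain ⟨⟨i, s⟩, ⟨j, t⟩, rfl : s = true, hij, hok, e⟩ := Omega.EH3.Kf.TwC.exists_pos hx h0
  have key : (∀ b, g (Fr.b (b, true)) = Fr.b (b, true) ∨
      ∃ (a : Fin m) (c : F), a < b ∧ g (Fr.b (b, true)) = Fr.b (b, true) + c • Fr.b (a, true)) := fun b => by
    rw [rg_eq Fr hok e] at hg
    rcases hok with h | h
    · rw [PG_ne Fr h] at hg
      obtain ⟨c, rfl⟩ := hg
      by_cases hb : (b, true) = ng (j, t)
      · obtain ⟨rfl, h2⟩ := Prod.mk.inj hb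
        exact Or.inr ⟨i, c, lt_of_le_of_ne hij h, hb ▸ X_apply_neg Fr h c⟩
      · exact Or.inl (X_apply_of_ne Fr h (by simp [TitsThree.WittFrame.neg]) hb c)
    · rw [← h, PG_self] at hg
      obtain ⟨c, rfl⟩ := hg
      exact Or.inl (Z_apply_of_ne Fr (by simp [TitsThree.WittFrame.neg]) c)
  refine ⟨fun b => ?_, fun a b hab => ?_⟩
  · rcases key b with h | ⟨a, c, -, h⟩
    · exact ⟨Pi.single b 1, by simp [h, Pi.single_apply]⟩
    · exact ⟨Pi.single b 1 + Pi.single a c, by simp [h, Pi.single_apply, add_smul, sum_add_distrib]⟩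
  · rcases key b with h | ⟨c, l, hc, h⟩
    · exact mx_fix h a
    · rw [mx, of_apply, h, map_add, map_smul, cf_b, cf_b, one_apply_ne (hc.trans_le hab).ne', smul_zero, add_zero]

theorem homB_fst (w : W) (x : Fin m × Bool) : (homB cs w x).1 = (homB cs w (x.1, true)).1 := by
  rcases eq_or_ng (a := x) (b := (x.1, true)) rfl with h | h
  · rw [← h]
  · conv_lhs => rw [h, homB_ng]
    rfl

/-- the permutation of an element of the Weyl group -/
noncomputable def pwB : W →* Perm (Fin m) :=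
  MonoidHom.toHomPerm
    { toFun := fun w i => (homB cs w (i, true)).1
      map_one' := funext fun i => by rw [map_one]; rfl
      map_mul' := fun v w => funext fun i => by rw [map_mul]; exact homB_fst cs v _ }

theorem pwB_apply (w : W) (x : Fin m × Bool) : pwB cs w x.1 = (homB cs w x).1 := (homB_fst cs w x).symm

theorem pwB_sq {w : W} (hw : pwB cs w = 1) : w * w = 1 := by
  refine homB_injective cs (Equiv.ext fun x => ?_)
  rw [map_mul, map_one, Perm.mul_apply, Perm.one_apply]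
  rcases eq_or_ng (a := homB cs w x) (b := x) (by rw [← pwB_apply, hw]; rfl) with h | h
  · rw [h, h]
  · rw [h, homB_ng, h, TypeC.ng_ng]

end frame

section typeB

variable {k : ℕ} {W : Type} [Group W] (cs : CoxeterSystem (CoxeterMatrix.B (k + 1)) W)

theorem sg_castSucc (i : Fin k) (x : Fin (k + 1) × Bool) : sg i.castSucc x = (swap i.castSucc i.succ x.1, x.2) :=
  congrArg (fun f : Perm (Fin (k + 1) × Bool) => f x) (Hk.Sgn.sgB_castSucc i)

theorem eq_last {j : Fin (k + 1)} (hj : j ∉ Set.range Fin.castSucc) : j = Fin.last k := by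
  induction j using Fin.lastCases with
  | last => rfl
  | cast i => exact absurd ⟨i, rfl⟩ hj

theorem not_lt_last : ¬ ((Fin.last k : Fin (k + 1)) : ℕ) + 1 < k + 1 := by simp

theorem sg_last_fst (x : Fin (k + 1) × Bool) : (sg (Fin.last k) x).1 = x.1 := by
  unfold sg
  rw [dif_neg not_lt_last]
  split_ifs <;> rfl

theorem homB_WJ {w : W} (hw : w ∈ WJ cs (Set.range Fin.castSucc)) (x : Fin (k + 1) × Bool) :
    homB cs w x = (pwB cs w x.1, x.2) := by
  refine Prod.ext (pwB_apply cs w x).symm ?_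
  induction hw using Subgroup.closure_induction generalizing x with
  | mem _ h =>
    obtain ⟨_, ⟨i, rfl⟩, rfl⟩ := h
    rw [homB_simple, sg_castSucc]
  | one => rw [map_one]; rfl
  | mul v w _ _ h1 h2 => rw [map_mul, Perm.mul_apply, h1, h2]
  | inv w _ h1 => rw [map_inv, ← h1 ((homB cs w)⁻¹ x), ← Perm.mul_apply, mul_inv_cancel, Perm.one_apply]

theorem nx_castSucc (i : Fin k) : nx i.castSucc = (i.succ, false) := dif_pos (by simp)

theorem nx_last : nx (Fin.last k) = (Fin.last k, true) := dif_neg not_lt_last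

theorem typeA_B : Lev.TypeA (CoxeterMatrix.B (k + 1)) (Set.range Fin.castSucc) := by
  refine ⟨?_, ?_⟩
  · rintro _ ⟨i, rfl⟩ _ ⟨j, rfl⟩
    simp only [CoxeterMatrix.B, of_apply, Fin.ext_iff, Fin.val_castSucc]
    split_ifs <;> omega
  · rintro i - a - b - c -
    simp only [CoxeterMatrix.B, of_apply, Fin.ext_iff]
    split_ifs <;> omega

end typeB

section model

open Cfsg.Agent.H428.OQ (Line rho rho_inj pr rt pr_c' pr_c_ne conj_nZ dZ_memI dZ_memT sum_pairs card_tr0)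

variable {F : Type} [Field F] [Fintype F] {V : Type} [AddCommGroup V] [Module F V] {H : HForm F V} {k : ℕ}
  {Fr : Frame H (Fin (k + 1))} {Y : Type} [Group Y] [Finite Y]

/-- the sum of a character which is trivial on the subfield over the pairs `(x, c)` -/
theorem sum_chi {q : ℕ} (hF : Fintype.card F = q ^ 2) (χ : MulChar F ℂ) (hχ : ∀ y, y ^ q = y → y ≠ 0 → χ y = 1)
    (hne : χ ≠ 1) {c0 : F} (h0 : c0 ≠ 0) (hc : c0 ^ q = -c0)
    [Fintype {y : F × F // y.1 * y.1 ^ q = -(y.2 + y.2 ^ q)}] :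
    ∑ y : {y : F × F // y.1 * y.1 ^ q = -(y.2 + y.2 ^ q)}, χ (y.1.2 * c0⁻¹) ≠ 0 := by
  classical
  have h2 : ∑ c, χ (c * c0⁻¹) = 0 := (Fintype.sum_equiv (Equiv.mulRight₀ c0⁻¹ (inv_ne_zero h0)) _ _
    (fun c => rfl)).trans (MulChar.sum_eq_zero_of_ne_one hne)
  have h3 : ∑ c ∈ univ.filter (fun c : F => c + c ^ q = 0), χ (c * c0⁻¹) = (q - 1 : ℕ) := by
    have h5 : (0 : F) ∈ univ.filter (fun c : F => c + c ^ q = 0) :=
      mem_filter.2 ⟨mem_univ _, by rw [zero_pow_q hF, add_zero]⟩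
    rw [← add_sum_erase _ _ h5, zero_mul, MulChar.map_zero, zero_add, sum_congr rfl fun c hc' => hχ _ (by
      rw [mul_pow, inv_pow, hc, eq_neg_of_add_eq_zero_right (mem_filter.1 (mem_of_mem_erase hc')).2, inv_neg,
        neg_mul_neg]) (mul_ne_zero (ne_of_mem_erase hc') (inv_ne_zero h0)), sum_const, card_erase_of_mem h5,
      card_tr0 hF h0 hc, nsmul_eq_mul, mul_one]
  have h4 := two_le hF
  have h5 : ∑ y : {y : F × F // y.1 * y.1 ^ q = -(y.2 + y.2 ^ q)}, χ (y.1.2 * c0⁻¹) =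
      (q + 1) * ∑ c, χ (c * c0⁻¹) - q * ∑ c ∈ univ.filter fun c : F => c + c ^ q = 0, χ (c * c0⁻¹) := by
    convert sum_pairs hF (fun c => χ (c * c0⁻¹))
  rw [h5, h2, h3, mul_zero, zero_sub, neg_ne_zero]
  exact mul_ne_zero (Nat.cast_ne_zero.2 (by omega)) (Nat.cast_ne_zero.2 (by omega))

theorem Gn.norm_ne {q e : ℕ} (hF : Fintype.card F = q ^ 2) (hq : Odd q) {x : F} (hx : Gn e x) : x ^ q * x ≠ 1 := by
  intro h
  obtain ⟨c, hc⟩ := (hx.prim.pow_eq_one_iff_dvd _).1 ((pow_succ x q).trans h)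
  obtain ⟨d, rfl⟩ := hq
  refine hx.nd ⟨c * d, ?_⟩
  rw [Nat.card_eq_fintype_card, hF, show (2 * d + 1) ^ 2 = (2 * d + 1 + 1) * (2 * d) + 1 by ring, hc,
    Nat.add_sub_cancel]
  ring

/-- a group with a faithful representation `L` which is modelled on a unitary Witt frame -/
structure UF (M : Model Fr Y) (L : Y →* (V ≃ₗ[F] V)) (q : ℕ) (Δ : Subgroup Fˣ) (p0 : Fr.Adm) : Prop where
  card : Fintype.card F = q ^ 2
  odd : Odd q
  amb : Amb Fr M.I
  inj : Function.Injective L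
  eq : ∀ g : M.I, L (M.φ g) = g
  mem : ∀ y, L y ∈ M.I
  σ : ∀ x, H.σ x = x ^ q
  fix : ∀ g ∈ M.I, (∀ z, g (Fr.b z) = Fr.b z) → g = 1
  c0 : p0.c ≠ 0
  w0 : p0.w = 0
  det : ∀ g ∈ M.I, Mono Fr g id → ∃ δ ∈ Δ, (mx Fr g).det = δ
  adm : ∀ δ ∈ Δ, ∃ p : Fr.Adm, p.c = δ * p0.c
  alt : (Δ = ⊤ ∧ ∃ d, Line Fr q d) ∨ (k ≠ 0 ∧ ∀ δ ∈ Δ, (δ : F) ^ q = δ)

namespace UF

variable {M : Model Fr Y} {L : Y →* (V ≃ₗ[F] V)} {q : ℕ} {Δ : Subgroup Fˣ} {p0 : Fr.Adm} (D : UF M L q Δ p0)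
include D

theorem mem_map {P : Subgroup (V ≃ₗ[F] V)} {y : Y} : y ∈ (P.subgroupOf M.I).map M.φ ↔ L y ∈ P :=
  ⟨fun ⟨g, hg, e⟩ => by rw [← e, D.eq]; exact hg, fun h => ⟨⟨L y, D.mem y⟩, h, D.inj (D.eq _)⟩⟩

theorem mem_T {t : Y} : t ∈ WittModel.T M ↔ Mono Fr (L t) id := D.mem_map.trans (and_iff_right (D.mem t))

theorem exists_T {g : V ≃ₗ[F] V} (hg : g ∈ M.I) (hm : Mono Fr g id) : ∃ t ∈ WittModel.T M, L t = g :=
  ⟨M.φ ⟨g, hg⟩, D.mem_T.2 ((D.eq ⟨g, hg⟩).symm ▸ hm), D.eq _⟩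

theorem iso (y : Y) : H.IsIso (L y) := D.amb.iso _ (D.mem y)

theorem ext {s t : Y} (hs : s ∈ WittModel.T M) (ht : t ∈ WittModel.T M)
    (e : ∀ b, L s (Fr.b (b, true)) = L t (Fr.b (b, true))) : s = t := by
  have h1 : ∀ b, L (t⁻¹ * s) (Fr.b (b, true)) = (1 : F) • Fr.b (b, true) := fun b => by
    rw [map_mul, LinearEquiv.mul_apply, e, ← LinearEquiv.mul_apply, ← map_mul, inv_mul_cancel, map_one, one_smul]
    rfl
  refine (inv_mul_eq_one.1 (D.inj ((D.fix _ (D.mem _) fun ⟨b, c⟩ => ?_).trans (map_one L).symm))).symm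
  cases c
  · simpa [ng] using (opp (D.iso _) (D.mem_T.1 (mul_mem (inv_mem ht) hs)) (h1 b)).2
  · simpa using h1 b

theorem exists_two {a b : Fin (k + 1)} (hab : a ≠ b) (x : Fˣ) : ∃ t ∈ WittModel.T M, ∀ c, L t (Fr.b (c, true)) =
    ((Pi.mulSingle a x * Pi.mulSingle b x⁻¹ : Fin (k + 1) → Fˣ) c : F) • Fr.b (c, true) := by
  have h : ((a, true) : Fin (k + 1) × Bool).1 ≠ ((b, false) : Fin (k + 1) × Bool).1 := hab
  obtain ⟨t, ht, e⟩ := D.exists_T (hX_mem M (a, true) (b, false) x) (mono_hX Fr h x.ne_zero)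
  refine ⟨t, ht, fun c => ?_⟩
  rw [e]
  by_cases h1 : c = a
  · simpa [h1, hab] using hX_a Fr h x.ne_zero
  by_cases h2 : c = b
  · simpa [h2, hab.symm, TitsThree.WittFrame.neg] using hX_nb Fr h x.ne_zero
  · simpa [h1, h2] using hX_ne Fr h (z := (c, true)) h1 h2 x

theorem exists_last {δ : Fˣ} (hδ : δ ∈ Δ) : ∃ t ∈ WittModel.T M, ∀ c, L t (Fr.b (c, true)) =
    ((Pi.mulSingle (Fin.last k) δ : Fin (k + 1) → Fˣ) c : F) • Fr.b (c, true) := by
  obtain ⟨r, hr⟩ := D.adm δ hδ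
  have h : r.c ≠ 0 := hr ▸ mul_ne_zero δ.ne_zero D.c0
  refine ⟨_, dZ_memT M not_lt_last D.c0 h, fun c => ?_⟩
  rw [D.eq]
  by_cases h1 : c = Fin.last k
  · rw [h1, Pi.mulSingle_eq_same, dZ_a D.c0 h, hr, mul_inv_cancel_right₀ D.c0]
  · rw [Pi.mulSingle_eq_of_ne h1, Units.val_one, one_smul]
    exact dZ_ne h1

variable {W : Type} [Group W] [Finite W] {cs : CoxeterSystem (CoxeterMatrix.B (k + 1)) W} {p : ℕ} {nw : Fin (k + 1) → Y}
  (hn : ∀ i, L (nw i) = nn Fr p0 i) (R : RGD cs (isCartan (k + 1)) p (WittModel.T M) nw (WittModel.X M))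
include hn

theorem mono_rp {w : W} {g : Y} (hg : Rp cs R.nsys w g) : Mono Fr (L g) (homB cs w) := by
  have h1 : ∀ w : W, ∃ g, Rp cs R.nsys w g ∧ Mono Fr (L g) (homB cs w) := fun w => by
    induction w using cs.simple_induction_left with
    | one => exact ⟨1, rp_one, by rw [map_one, map_one]; exact Mono.one⟩
    | mul_simple_left w i ih =>
      obtain ⟨g, h1, h2⟩ := ih
      refine ⟨_, (rp_simple _ _ i).mul h1, ?_⟩
      rw [map_mul, hn]
      exact ((mono_nn D.c0 i).mul h2).congr fun x => by rw [map_mul, Perm.mul_apply, homB_simple]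
  obtain ⟨g0, h2, h3⟩ := h1 w
  have h4 := h3.mul (D.mem_T.1 (h2.unique hg))
  rwa [← map_mul, mul_inv_cancel_left] at h4

include R in
/-- a character which is fixed by the last reflection is trivial on the norms -/
theorem norm_one {mu : ↥(WittModel.T M) →* ℂˣ} (hmu : Cj (WittModel.T M) mu mu (nw (Fin.last k))) {t : Y}
    (ht : t ∈ WittModel.T M) (h1 : ∀ a, a ≠ Fin.last k → L t (Fr.b (a, true)) = Fr.b (a, true)) {y : F}
    (h2 : L t (Fr.b (Fin.last k, true)) = y • Fr.b (Fin.last k, true)) (hy : y ^ q = y) : mu ⟨t, ht⟩ = 1 := by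
  obtain ⟨x, hx0, hx⟩ := exists_norm_eq_ne D.card hy (opp (D.iso t) (D.mem_T.1 ht) h2).1
  obtain ⟨s, hs, h3⟩ : ∃ s ∈ WittModel.T M, L s (Fr.b (Fin.last k, true)) = x • Fr.b (Fin.last k, true) := by
    rcases D.alt with ⟨h, -⟩ | ⟨h, -⟩
    · obtain ⟨s, hs, e⟩ := D.exists_last (δ := Units.mk0 x hx0) (h ▸ Subgroup.mem_top _)
      exact ⟨s, hs, by simpa using e (Fin.last k)⟩
    · have h0 : Fin.last k ≠ 0 := by simpa using h
      obtain ⟨s, hs, e⟩ := D.exists_two h0 (Units.mk0 x hx0)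
      exact ⟨s, hs, by simpa [h0] using e (Fin.last k)⟩
  have hs' : (nw (Fin.last k))⁻¹ * s * nw (Fin.last k) ∈ WittModel.T M :=
    (Subgroup.mem_normalizer_iff''.1 (R.nsys.norm _) s).1 hs
  have h4 : ∀ z l, L s (Fr.b (sg (Fin.last k) z)) = l • Fr.b (sg (Fin.last k) z) →
      L ((nw (Fin.last k))⁻¹ * s * nw (Fin.last k)) (Fr.b z) = (l : F) • Fr.b z := fun z l e => by
    obtain ⟨c, -, hc⟩ := mono_nn D.c0 (Fin.last k) z
    rw [map_mul, map_mul, map_inv, hn, LinearEquiv.mul_apply, LinearEquiv.mul_apply, hc, map_smul, e, smul_comm, ← hc,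
      map_smul, ← LinearEquiv.mul_apply, inv_mul_cancel]
    rfl
  have h5 : t * ((nw (Fin.last k))⁻¹ * s * nw (Fin.last k)) = s := D.ext (mul_mem ht hs') hs fun b => by
    rw [map_mul, LinearEquiv.mul_apply]
    by_cases hb : b = Fin.last k
    · rw [hb, h4 _ (H.σ x)⁻¹ (by rw [TypeC.sg_last not_lt_last]; exact (opp (D.iso s) (D.mem_T.1 hs) h3).2), map_smul,
        h2, h3, smul_smul, D.σ, ← hx, mul_comm x, inv_mul_cancel_left₀ (pow_ne_zero _ hx0)]
    · rw [h4 _ (mx Fr (L s) b b) (by rw [TypeC.sg_of_ne hb (by simp; omega)]; exact tor_e (D.mem_T.1 hs) b), map_smul,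
        h1 b hb, ← tor_e (D.mem_T.1 hs)]
  have h6 := hmu s hs hs'
  rw [show (⟨s, hs⟩ : WittModel.T M) = ⟨t, ht⟩ * ⟨_, hs'⟩ from Subtype.ext h5.symm, map_mul] at h6
  exact mul_eq_right.1 h6

omit hn in
theorem mem_X_last {x : Y} : x ∈ WittModel.X M (sr (Fin.last k)) ↔ ∃ r, rho M (Fin.last k, true) r = x := by
  refine D.mem_map.trans ?_
  rw [rg_sr, nx_last, PG_self]
  exact ⟨fun ⟨r, e⟩ => ⟨r, D.inj ((D.eq _).trans e.symm)⟩, fun ⟨r, e⟩ => ⟨r, e ▸ D.eq _⟩⟩

theorem n_last : L (nw (Fin.last k)) = nZ Fr (Fin.last k, true) p0 := (hn _).trans (if_neg not_lt_last)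

theorem tx_fix {x : Y} (hx : x ∈ WittModel.X M (sr (Fin.last k))) (hx1 : x ≠ 1) {a : Fin (k + 1)}
    (ha : a ≠ Fin.last k) : L (tx R (Fin.last k) x) (Fr.b (a, true)) = Fr.b (a, true) := by
  obtain ⟨-, u, hu, v, hv, e⟩ := tx_spec R hx hx1
  let S := (MulAction.stabilizer (V ≃ₗ[F] V) (Fr.b (a, true))).comap L
  have h1 : WittModel.X M (sr (Fin.last k)) ≤ S := fun y hy => by
    obtain ⟨r, rfl⟩ := D.mem_X_last.1 hy
    change L (M.φ _) _ = _
    rw [D.eq]
    exact Z_apply_of_ne Fr (by simp [TitsThree.WittFrame.neg]) r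
  have h2 : nw (Fin.last k) ∈ S := by
    change L _ _ = _
    rw [D.n_last hn]
    exact nZ_apply_of_ne Fr (z := (a, true)) ha p0
  have h3 : tx R (Fin.last k) x = u⁻¹ * (nw (Fin.last k) * x * (nw (Fin.last k))⁻¹) * v⁻¹ * (nw (Fin.last k))⁻¹ := by
    rw [e]; group
  change tx R (Fin.last k) x ∈ S
  rw [h3]
  exact mul_mem (mul_mem (mul_mem (inv_mem (h1 hu)) (mul_mem (mul_mem h2 (h1 hx)) (inv_mem h2))) (inv_mem (h1 hv)))
    (inv_mem h2)

include R in
theorem dich (h : ∀ δ ∈ Δ, (δ : F) ^ q = δ) {mu : ↥(WittModel.T M) →* ℂˣ}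
    (hmu : Cj (WittModel.T M) mu mu (nw (Fin.last k))) {t : Y} (ht : t ∈ WittModel.T M)
    (h1 : ∀ a, a ≠ Fin.last k → mx Fr (L t) a a = 1) : mu ⟨t, ht⟩ = 1 := by
  obtain ⟨δ, hδ, e⟩ := D.det _ (D.mem t) (D.mem_T.1 ht)
  rw [mx_diag (tor_e (D.mem_T.1 ht)), det_diagonal, prod_eq_single (Fin.last k) (fun a _ ha => h1 a ha) (by simp)] at e
  exact D.norm_one hn R hmu ht (fun a ha => by rw [tor_e (D.mem_T.1 ht), h1 a ha, one_smul]) (tor_e (D.mem_T.1 ht) _)
    (e ▸ h δ hδ)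

theorem znode {mu : ↥(WittModel.T M) →* ℂˣ} (hmu : Cj (WittModel.T M) mu mu (nw (Fin.last k))) :
    zet R (Fin.last k) mu ≠ 0 := by
  classical
  rcases D.alt with ⟨hΔ, d, hd⟩ | ⟨-, h⟩
  swap
  · exact zet_ne_of_one R fun x hx hx1 => D.dich hn R h hmu _ fun a ha => by
      rw [mx_fix (D.tx_fix hn R hx hx1 ha), one_apply_eq]
  choose c hc ec using fun u : Fˣ => D.exists_last (δ := (u ^ q)⁻¹) (hΔ ▸ Subgroup.mem_top _)
  let ψ : Fˣ →* ℂˣ := MonoidHom.mk' (fun u => mu ⟨c u, hc u⟩) fun u v => by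
    rw [← map_mul]
    refine congrArg mu (Subtype.ext (D.ext (hc _) (mul_mem (hc u) (hc v)) fun b => ?_))
    rw [Subgroup.coe_mul, map_mul, LinearEquiv.mul_apply, ec, ec, map_smul, ec, smul_smul, mul_pow, mul_inv, Pi.mulSingle_mul,
      Pi.mul_apply, Units.val_mul, mul_comm]
  have hr : ∀ r, rho M (Fin.last k, true) r ≠ 1 ↔ r.c ≠ 0 := fun r => not_congr
    ⟨fun e => congrArg Frame.Adm.c (rho_inj M _ (e.trans (map_one _).symm)), fun e => by rw [hd.eq_one D.card e, map_one]⟩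
  have h1 : ∀ r (h : r.c ≠ 0), tx R (Fin.last k) (rho M (Fin.last k, true) r) =
      c (Units.mk0 _ (mul_ne_zero h (inv_ne_zero D.c0))) := fun r h => by
    have h2 := (tx_unique R (D.mem_X_last.2 ⟨r, rfl⟩) ((hr r).2 h) (dZ_memT M not_lt_last D.c0 (pr_c_ne D.c0 h))
      (inv_mem (D.mem_X_last.2 ⟨pr p0 r, rfl⟩)) (inv_mem (D.mem_X_last.2 ⟨rt p0 r, rfl⟩)) (D.inj (by
        simp only [map_mul, map_inv, D.n_last hn, rho, MonoidHom.mk'_apply, D.eq]
        exact conj_nZ hd M D.amb D.c0 D.w0 _ h))).1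
    refine D.ext (tx_mem R _ _) (hc _) fun b => ?_
    rw [ec]
    by_cases hb : b = Fin.last k
    · rw [h2, D.eq, hb, dZ_a D.c0 (pr_c_ne D.c0 h), pr_c' p0 h, Pi.mulSingle_eq_same, D.σ, D.σ]
      have := D.c0
      congr 1
      simp only [Units.val_inv_eq_inv_val, Units.val_pow_eq_pow_val, Units.val_mk0, mul_pow, inv_pow]
      field_simp
    · rw [D.tx_fix hn R (D.mem_X_last.2 ⟨r, rfl⟩) ((hr r).2 h) hb, Pi.mulSingle_eq_of_ne hb, Units.val_one, one_smul]
  by_cases h0 : MulChar.ofUnitHom ψ = 1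
  · refine zet_ne_of_one R fun x hx hx1 => ?_
    obtain ⟨r, rfl⟩ := D.mem_X_last.1 hx
    simp only [h1 r ((hr r).1 hx1)]
    exact Units.ext ((MulChar.ofUnitHom_coe ψ _).symm.trans (h0 ▸ MulChar.one_apply_coe _))
  let _ := Fintype.ofFinite ↥(WittModel.X M (sr (Fin.last k)))
  let E : Fr.Adm ≃ ↥(WittModel.X M (sr (Fin.last k))) := Equiv.ofBijective (fun r => ⟨_, D.mem_X_last.2 ⟨r, rfl⟩⟩)
    ⟨fun r s h => rho_inj M _ (congrArg Subtype.val h), fun x => (D.mem_X_last.1 x.2).imp fun _ => Subtype.ext⟩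
  refine (Fintype.sum_equiv (hd.equiv.trans E) _ _ fun y => ?_).symm.trans_ne
    (sum_chi D.card (MulChar.ofUnitHom ψ) (fun y hy hy0 => ?_) h0 D.c0 (hd.c_pow D.w0))
  · change _ = if rho M _ (hd.equiv y) = 1 then _ else ((mu ⟨tx R _ (rho M _ (hd.equiv y)), tx_mem R _ _⟩ : ℂˣ) : ℂ)
    split_ifs with h
    · rw [← hd.equiv_c, not_not.1 (mt (hr _).2 (not_not.2 h)), zero_mul, MulChar.map_zero]
    · simp only [h1 _ ((hr _).1 h)]
      exact MulChar.ofUnitHom_coe ψ (Units.mk0 _ (mul_ne_zero ((hr _).1 h) (inv_ne_zero D.c0)))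
  · refine (MulChar.ofUnitHom_coe ψ (Units.mk0 y hy0)).trans (congrArg Units.val (D.norm_one hn R hmu (hc _)
      (fun a ha => by rw [ec, Pi.mulSingle_eq_of_ne ha, Units.val_one, one_smul]) (ec _ _) ?_))
    simp [hy]

omit hn in
theorem uni {u : Y} (hu : u ∈ UU cs (isCartan (k + 1)) (WittModel.X M)) {P : Subgroup Y} (hP : ∀ y, y ∈ P ↔ L y ∈ St Fr) :
    u ∈ P ∧ Uni (mx Fr (L u)) :=
  uni_of_gen (ρ := fun y => mx Fr (L y)) (by ext a b; rw [map_one]; exact mx_fix rfl a)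
    (fun g _ g' hg' => by rw [map_mul, mx_mul ((hP _).1 hg')])
    (fun x hx h0 u hu => (uni_rg cs hx h0 (D.mem_map.1 hu)).imp_left (hP u).2) hu

/-- the unipotent radical has no fixed points -/
theorem cv {u d : Y} (hu : ∀ b, L u (Fr.b (b, true)) = Fr.b (b, true)) {w : W} (hw : w ∈ WJ cs (Set.range Fin.castSucc))
    (hd : Rp cs R.nsys w d) (hdu : d * u = u * d) {e : ℕ} {x : F} (hx : Gn e x) {j : Fin (k + 1)}
    (h1 : mx Fr (L d) *ᵥ Pi.single j 1 = x • (Pi.single j 1 : Fin (k + 1) → F))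
    (h2 : ∀ (y : F) v, Gn e y → y ≠ x → mx Fr (L d) *ᵥ v = y • v → v = 0) : L u (Fr.b (j, false)) = Fr.b (j, false) := by
  have hm := D.mono_rp hn R hd
  have h3 : L d (Fr.b (j, true)) = x • Fr.b (j, true) := by
    rw [st_eq (st_mono hm fun b => homB_WJ cs hw (b, true)).1]
    simp [show ∀ c, mx Fr (L d) c j = _ from fun c => (by simpa using congrFun h1 c), Pi.single_apply]
  have h4 : L d (Fr.b (j, false)) = (x ^ q)⁻¹ • Fr.b (j, false) := by
    obtain ⟨l, hl, e1⟩ := hm (j, true)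
    obtain ⟨l', -, e2⟩ := hm (j, false)
    have h5 : homB cs w (j, true) = (j, true) := by
      by_contra hc
      refine not_prop (Fr := Fr) hc (mul_ne_zero (inv_ne_zero hl) hx.ne_zero) ?_
      rw [mul_smul, ← h3, e1, inv_smul_smul₀ hl]
    have h6 := D.iso d (Fr.b (j, true)) (Fr.b (j, false))
    rw [show homB cs w (j, false) = (j, false) from (homB_ng cs w (j, true)).trans (congrArg ng h5)] at e2
    rw [h3, e2, H.smul_left, H.smul_right, ← mul_assoc, Fr.hb, if_pos (by simp), if_pos rfl, mul_one] at h6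
    rw [e2, ← D.σ, ← map_inv₀, ← eq_inv_of_mul_eq_one_right h6, H.σσ]
  set z := L u (Fr.b (j, false)) - Fr.b (j, false) with hz
  have h5 : L d z = (x ^ q)⁻¹ • z := by
    rw [hz, map_sub, ← LinearEquiv.mul_apply, ← map_mul, hdu, map_mul, LinearEquiv.mul_apply, h4, map_smul, smul_sub]
  have h6 : z - ∑ c, cf Fr c z • Fr.b (c, true) ∈ Fr.V0 := D.amb.V0 _ fun ⟨a, s⟩ => by
    cases s
    · change cf Fr a _ = 0
      rw [map_sub, cf_sum, sub_self]
    · have h7 : H.h (∑ c, cf Fr c z • Fr.b (c, true)) (Fr.b (a, true)) = 0 :=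
        sum_induction _ (fun v => H.h v (Fr.b (a, true)) = 0) (fun _ _ h h' => by rw [H.add_left, h, h', add_zero])
          (H.zero_left _) fun c _ => by rw [H.smul_left, Fr.hb_ne (by simp [TitsThree.WittFrame.neg]), mul_zero]
      rw [H.sub_left, h7, sub_zero, hz, H.sub_left, ← D.iso u (Fr.b (j, false)), hu, sub_self]
  have hy : Gn e (x ^ q)⁻¹ := (hx.pow_odd D.odd).inv
  have h7 : (fun c => cf Fr c z) = 0 := h2 _ _ hy
    (fun h => hx.norm_ne D.card D.odd (by rw [← mul_inv_cancel₀ hy.inv.ne_zero, inv_inv, h])) (funext fun a => by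
      have h8 : cf Fr a (L d (z - _)) = 0 := Fr.h0' _
        (D.amb.map_V0 (D.mem d) hm (ρ := ⇑(homB cs w)⁻¹) (fun x => Equiv.apply_symm_apply _ x) h6)
      rw [map_sub, map_sub, cf_map, h5, map_smul, sub_eq_zero] at h8
      exact h8.symm)
  simp only [show ∀ c, cf Fr c z = 0 from congrFun h7, zero_smul, sum_const_zero, sub_zero] at h6
  refine sub_eq_zero.1 (D.amb.aniso z h6 (by_contra fun h => hx.norm_ne D.card D.odd ?_))
  have h8 := D.iso d z z
  rw [h5, H.smul_left, H.smul_right, ← mul_assoc, D.σ, inv_pow, pow_q_pow_q D.card, ← mul_inv] at h8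
  exact inv_eq_one.1 (mul_right_cancel₀ h (h8.trans (one_mul _).symm))

theorem n_castSucc (i : Fin k) : L (nw i.castSucc) = nX Fr (i.castSucc, true) (i.succ, false) 1 := by
  rw [hn, ← nx_castSucc]
  exact if_pos (by simp)

theorem n_mon (i : Fin k) : L (nw i.castSucc) ∈ St Fr ∧ IsMon (swap i.castSucc i.succ) (mx Fr (L (nw i.castSucc))) :=
  st_mono (hn _ ▸ mono_nn D.c0 _) fun b => sg_castSucc i (b, true)

theorem n_fix (i : Fin k) {b : Fin (k + 1)} (h1 : b ≠ i.castSucc) (h2 : b ≠ i.succ) :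
    mx Fr (L (nw i.castSucc)) b b = 1 := by
  rw [D.n_castSucc hn, mx_fix (nX_apply_of_ne Fr i.castSucc_lt_succ.ne (z := (b, true)) h1 h2 1), one_apply_eq]

/-- **the linear datum of a unitary group** -/
noncomputable def ld : LD R F k :=
  let P : Subgroup Y := ⟨(St Fr).comap L, fun {g} hg => inv_eq_pow g ▸ Submonoid.pow_mem _ hg _⟩
  have hT : ∀ t ∈ WittModel.T M, L t ∈ St Fr ∧ IsMon 1 (mx Fr (L t)) := fun t ht => st_mono (D.mem_T.1 ht) fun _ => rfl
  { P := P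
    ρ := fun y => mx Fr (L y)
    ι := Fin.castSucc
    pw := pwB cs
    Δ := Δ
    B_le := sup_le (fun t ht => (hT t ht).1) fun u hu => (D.uni hu (P := P) fun _ => Iff.rfl).1
    n_mem := fun i => (D.n_mon hn i).1
    one := by ext a b; rw [map_one]; exact mx_fix rfl a
    mul := fun g _ g' hg' => by rw [map_mul, mx_mul hg']
    U_tri := fun u hu => (D.uni hu (P := P) fun _ => Iff.rfl).2
    T_diag := fun t ht => (hT t ht).2
    T_inj := fun t ht h => D.ext ht (one_mem _) fun b => by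
      rw [tor_e (D.mem_T.1 ht), h, one_apply_eq, one_smul, map_one]
      rfl
    T_det := fun t ht => D.det _ (D.mem t) (D.mem_T.1 ht)
    T_two := fun a x ha => (D.exists_two ha x).imp fun _ h => ⟨h.1, mx_diag h.2⟩
    T_last := fun δ hδ => (D.exists_last hδ).imp fun _ h => ⟨h.1, mx_diag h.2⟩
    n_mon := fun i => (D.n_mon hn i).2
    n_fix := fun i b => D.n_fix hn i
    n_det := fun i => by
      have h := i.castSucc_lt_succ.ne
      rw [(D.n_mon hn i).2.eq, det_mon, Perm.sign_swap h, prod_eq_mul i.castSucc i.succ h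
        (fun c _ hc => by rw [swap_apply_of_ne_of_ne hc.1 hc.2, D.n_fix hn i hc.1 hc.2]) (by simp) (by simp),
        swap_apply_left, swap_apply_right, D.n_castSucc hn,
        mx_smul ((nX_apply_self Fr h one_ne_zero).trans (neg_smul _ _).symm), mx_smul (nX_apply_neg Fr h one_ne_zero)]
      simp
    X_fix := fun i x hx a b hb => by
      have h1 := D.mem_map.1 hx
      rw [rg_sr, nx_castSucc, PG_ne Fr i.castSucc_lt_succ.ne] at h1
      obtain ⟨t, e⟩ := h1
      rw [e]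
      exact mx_fix (X_apply_of_ne Fr i.castSucc_lt_succ.ne (by simp [TitsThree.WittFrame.neg])
        (by simpa [TitsThree.WittFrame.neg] using hb) t) a
    pw_in := fun i => Equiv.ext fun j => by rw [pwB_apply cs _ (j, true), homB_simple, sg_castSucc]
    pw_out := fun j hj => Equiv.ext fun a => by
      rw [pwB_apply cs _ (a, true), homB_simple, eq_last hj, sg_last_fst]
      rfl
    pw_sq := fun w => pwB_sq cs
    pw_inj := fun w hw h => homB_injective cs (Equiv.ext fun x => by rw [homB_WJ cs hw, h, map_one]; rfl)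
    ta := typeA_B
    znode := fun j hj mu hmu => by
      obtain rfl := eq_last hj
      exact D.znode hn R hmu
    dich := D.alt.imp And.left fun h mu hmu t ht h1 => D.dich hn R h.2 (hmu _ (by simp)) ht h1
    cv := fun u hu h e h1 => D.inj ((D.fix _ (D.mem u) fun ⟨j, s⟩ => by
      have h2 : ∀ b, L u (Fr.b (b, true)) = Fr.b (b, true) := fun b => by
        rw [st_eq (D.uni hu (P := P) fun _ => Iff.rfl).1]
        simp [show mx Fr (L u) = 1 from h, one_apply]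
      cases s
      · obtain ⟨w, hw, d, hd, hdu, x, hx, h3, h4⟩ := h1 j
        exact D.cv hn R h2 hw hd hdu hx h3 h4
      · exact h2 j).trans (map_one L).symm) }

end UF

end model

end Cfsg.Agent.ODD.FA
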